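import Groth.Agent.Lib.CTensor.Ext
import Groth.Agent.Lib.AdicExtra.FiniteAlg
import Groth.Agent.Lib.RegLoc.Basic
import Groth.Agent.Lib.AdicLim.Equiv

/-!
# The completed tensor product `A ⊗̂_k k'` of a complete local algebra with a field

If `A` is finite over `P = k[[T₁, …, T_m]]` with `m_P A = m_A` then
`A ⊗̂_k k' ≃ k'[[T₁, …, T_m]] ⊗_P A`.
-/

universe u

open IsLocalRing
open scoped TensorProduct

set_option linter.style.haveILetI false
set_option linter.unusedSectionVars false

noncomputable section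

namespace GrothLib.CTensor

variable (k A k' : Type u) [Field k] [CommRing A] [IsLocalRing A] [Algebra k A] [Field k'] [Algebra k k']

/-- The ideal generated by the maximal ideal. -/
abbrev mI : Ideal (A ⊗[k] k') := (maximalIdeal A).map (algebraMap A (A ⊗[k] k'))

/-- The completed tensor product. -/
abbrev CT := AdicCompletion (mI k A k') (A ⊗[k] k')

/-- The map from the field. -/
def kMap : k' →+* CT k A k' :=
  (algebraMap (A ⊗[k] k') (CT k A k')).comp
    (Algebra.TensorProduct.includeRight : k' →ₐ[k] A ⊗[k] k').toRingHom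

theorem algebraMap_eq (a : A) :
    algebraMap A (CT k A k') a = algebraMap (A ⊗[k] k') (CT k A k') (a ⊗ₜ[k] 1) := rfl

theorem kMap_eq (c : k') : kMap k A k' c = algebraMap (A ⊗[k] k') (CT k A k') ((1 : A) ⊗ₜ[k] c) := rfl

variable [IsNoetherianRing A]

theorem mI_fg : (mI k A k').FG := Ideal.FG.map (IsNoetherian.noetherian (maximalIdeal A)) _

theorem map_mI : (mI k A k').map (algebraMap (A ⊗[k] k') (CT k A k')) =
    (maximalIdeal A).map (algebraMap A (CT k A k')) := by
  rw [Ideal.map_map, ← IsScalarTower.algebraMap_eq]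

theorem isAdicComplete : IsAdicComplete ((maximalIdeal A).map (algebraMap A (CT k A k'))) (CT k A k') := by
  rw [← map_mI]
  exact AdicCompletion.isAdicComplete_self _ (mI_fg k A k')

theorem flat : Module.Flat A (CT k A k') := flat_completion (B := A ⊗[k] k') A (maximalIdeal A)

variable [Module.Finite k (ResidueField A)]

/-- The quotient by the maximal ideal is finite over the field. -/
theorem quotient_finite :
    ((Ideal.Quotient.mk (mI k A k')).comp
      (Algebra.TensorProduct.includeRight : k' →ₐ[k] A ⊗[k] k').toRingHom).Finite := by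
  classical
  let φ : k' →+* (A ⊗[k] k') ⧸ mI k A k' := (Ideal.Quotient.mk (mI k A k')).comp
    (Algebra.TensorProduct.includeRight : k' →ₐ[k] A ⊗[k] k').toRingHom
  letI := φ.toAlgebra
  obtain ⟨s, hs⟩ := (Module.Finite.fg_top : (⊤ : Submodule k (ResidueField A)).FG)
  choose l hl using fun y : ResidueField A => residue_surjective y
  refine ⟨⟨s.image fun y => Ideal.Quotient.mk (mI k A k') (l y ⊗ₜ[k] (1 : k')), ?_⟩⟩
  rw [eq_top_iff]
  rintro z -
  obtain ⟨z, rfl⟩ := Ideal.Quotient.mk_surjective z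
  induction z using TensorProduct.induction_on with
  | zero => rw [map_zero]; exact zero_mem _
  | add a b ha hb => rw [map_add]; exact add_mem ha hb
  | tmul a c =>
    have ha : residue A a ∈ Submodule.span k (s : Set (ResidueField A)) := hs ▸ trivial
    obtain ⟨lam, hlam⟩ := Submodule.mem_span_finset'.1 ha
    have hmem : a - ∑ y : s, lam y • l y ∈ maximalIdeal A := by
      rw [← residue_eq_zero_iff, map_sub, map_sum, ← hlam, sub_eq_zero]
      refine Finset.sum_congr rfl fun y _ => ?_
      rw [Algebra.smul_def, Algebra.smul_def, map_mul, hl]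
      rfl
    have h0 : Ideal.Quotient.mk (mI k A k') (a ⊗ₜ[k] c) =
        Ideal.Quotient.mk (mI k A k') ((∑ y : s, lam y • l y) ⊗ₜ[k] c) := by
      rw [Ideal.Quotient.eq, ← TensorProduct.sub_tmul, ← mul_one (a - _), ← one_mul c,
        ← Algebra.TensorProduct.tmul_mul_tmul]
      exact Ideal.mul_mem_right _ _ (Ideal.mem_map_of_mem (algebraMap A (A ⊗[k] k')) hmem)
    rw [h0, TensorProduct.sum_tmul, map_sum]
    refine Submodule.sum_mem _ fun y _ => ?_
    have e : Ideal.Quotient.mk (mI k A k') ((lam y • l y) ⊗ₜ[k] c) =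
        (algebraMap k k' (lam y) * c) • Ideal.Quotient.mk (mI k A k') (l y ⊗ₜ[k] (1 : k')) := by
      rw [Algebra.smul_def (algebraMap k k' (lam y) * c), TensorProduct.smul_tmul, Algebra.smul_def (lam y) c]
      show _ = Ideal.Quotient.mk _ ((1 : A) ⊗ₜ[k] _) * _
      rw [← map_mul, Algebra.TensorProduct.tmul_mul_tmul, one_mul, mul_one]
    rw [e]
    exact Submodule.smul_mem _ _ (Submodule.subset_span (Finset.mem_image_of_mem _ y.2))

theorem isNoetherianRing : IsNoetherianRing (CT k A k') := by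
  let φ : k' →+* (A ⊗[k] k') ⧸ mI k A k' := (Ideal.Quotient.mk (mI k A k')).comp
    (Algebra.TensorProduct.includeRight : k' →ₐ[k] A ⊗[k] k').toRingHom
  letI := φ.toAlgebra
  haveI : Module.Finite k' ((A ⊗[k] k') ⧸ mI k A k') := RingHom.finite_algebraMap.1 (quotient_finite k A k')
  haveI := IsNoetherianRing.of_finite k' ((A ⊗[k] k') ⧸ mI k A k')
  exact GrothLib.AdicExtra.isNoetherianRing_adicCompletion_of_fg _ (mI_fg k A k')

variable [IsAdicComplete (maximalIdeal A) A]

/-- `A` is a finite algebra over power series whose variables generate its maximal ideal. -/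
theorem exists_param : ∃ (d : ℕ) (_ : Algebra (MvPowerSeries (Fin d) k) A)
    (_ : IsScalarTower k (MvPowerSeries (Fin d) k) A), Module.Finite (MvPowerSeries (Fin d) k) A ∧
      Ideal.span (Set.range fun i => algebraMap (MvPowerSeries (Fin d) k) A (MvPowerSeries.X i)) =
        maximalIdeal A := by
  obtain ⟨z, hz⟩ := GrothLib.RegLoc.exists_generators_fin (maximalIdeal A)
  obtain ⟨alg, tow, hX, -, hfin⟩ := GrothLib.CKaehler2.exists_finite_of_radical k A z
    (fun i => hz.le (Ideal.subset_span ⟨i, rfl⟩)) (hz.ge.trans Ideal.le_radical)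
  exact ⟨_, alg, tow, hfin, by simp only [hX]; exact hz⟩

variable {d : ℕ} [Algebra (MvPowerSeries (Fin d) k) A] [IsScalarTower k (MvPowerSeries (Fin d) k) A]

/-- The base changed presentation. -/
abbrev BC := MvPowerSeries (Fin d) k' ⊗[MvPowerSeries (Fin d) k] A

omit [Module.Finite k (ResidueField A)] [IsAdicComplete (maximalIdeal A) A] [IsScalarTower k (MvPowerSeries (Fin d) k) A] in
/-- The variables of a finite presentation generate an ideal primary to the maximal ideal. -/
theorem exists_pow_le [Module.Finite (MvPowerSeries (Fin d) k) A] :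
    ∃ N, maximalIdeal A ^ N ≤
      Ideal.span (Set.range fun i => algebraMap (MvPowerSeries (Fin d) k) A (MvPowerSeries.X i)) := by
  refine Ideal.exists_pow_le_of_le_radical_of_fg ?_ (IsNoetherian.noetherian _)
  rw [Ideal.radical_eq_sInf]
  refine le_sInf ?_
  rintro Q ⟨hQ, hQp⟩
  haveI := hQp
  haveI : Algebra.IsIntegral (MvPowerSeries (Fin d) k) A := Algebra.IsIntegral.of_finite _ _
  have hle : maximalIdeal (MvPowerSeries (Fin d) k) ≤ Q.comap (algebraMap (MvPowerSeries (Fin d) k) A) := by
    rw [← GrothLib.RegLoc.PS.span_X k, Ideal.span_le]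
    rintro _ ⟨i, rfl⟩
    exact hQ (Ideal.subset_span ⟨i, rfl⟩)
  haveI : (Q.comap (algebraMap (MvPowerSeries (Fin d) k) A)).IsMaximal :=
    (IsLocalRing.maximalIdeal.isMaximal _).eq_of_le (Ideal.comap_ne_top _ hQp.ne_top) hle ▸
      IsLocalRing.maximalIdeal.isMaximal _
  exact (IsLocalRing.eq_maximalIdeal (Ideal.isMaximal_of_isIntegral_of_isMaximal_comap Q ‹_›)).ge

/-- `k'[[T]] ⊗_{k[[T]]} A` is the completed tensor product. -/
theorem exists_equiv [Module.Finite (MvPowerSeries (Fin d) k) A]
    (hXm : ∀ i, algebraMap (MvPowerSeries (Fin d) k) A (MvPowerSeries.X i) ∈ maximalIdeal A) :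
    ∃ e : BC k A k' (d := d) ≃+* CT k A k', (∀ a : A, e (1 ⊗ₜ a) = algebraMap A (CT k A k') a) ∧
      (∀ c : k', e (MvPowerSeries.C c ⊗ₜ 1) = kMap k A k' c) := by
  let P := MvPowerSeries (Fin d) k
  let P' := MvPowerSeries (Fin d) k'
  let A' := CT k A k'
  let C' := P' ⊗[P] A
  let J := (maximalIdeal A).map (algebraMap A A')
  let Jc := (maximalIdeal A).map (Algebra.TensorProduct.includeRight : A →ₐ[P] C').toRingHom
  haveI hJ : IsAdicComplete J A' := isAdicComplete k A k'
  -- completeness of the base change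
  haveI : IsAdicComplete (maximalIdeal P') P' := inferInstance
  haveI : Module.Finite P' C' := Module.Finite.base_change P P' A
  haveI hc0 : IsAdicComplete (maximalIdeal P') C' := GrothLib.AdicLim.isAdicComplete_of_finite _ C'
  let I0 := Ideal.span (Set.range fun i => algebraMap P A (MvPowerSeries.X i))
  let Jc0 := I0.map (Algebra.TensorProduct.includeRight : A →ₐ[P] C').toRingHom
  have hJc : (maximalIdeal P').map (algebraMap P' C') = Jc0 := by
    rw [← GrothLib.RegLoc.PS.span_X k']
    simp only [Jc0, I0, Ideal.map_span, ← Set.range_comp]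
    congr 1
    refine congrArg Set.range (funext fun i => ?_)
    show (MvPowerSeries.X i : P') ⊗ₜ[P] (1 : A) = (1 : P') ⊗ₜ[P] (algebraMap P A (MvPowerSeries.X i))
    rw [Algebra.algebraMap_eq_smul_one, ← TensorProduct.smul_tmul, Algebra.smul_def, mul_one]
    congr 1
    show MvPowerSeries.X i = MvPowerSeries.map (algebraMap k k') (MvPowerSeries.X i)
    rw [MvPowerSeries.map_X]
  haveI hcJ0 : IsAdicComplete Jc0 C' := hJc ▸ (IsAdicComplete.map_algebraMap_iff _ _).2 hc0
  obtain ⟨N, hN⟩ := exists_pow_le k A (d := d)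
  haveI hcJ : IsAdicComplete Jc C' :=
    GrothLib.AdicLim.isAdicComplete_of_le_of_pow_le (J := Jc0) (k := N)
      (Ideal.map_mono (Ideal.span_le.2 (by rintro _ ⟨i, rfl⟩; exact hXm i)))
      (by rw [← Ideal.map_pow]; exact Ideal.map_mono hN) C'
  -- the map to the completion
  letI algk' : Algebra k' A' := (kMap k A k').toAlgebra
  have hX : ∀ i, algebraMap A A' (algebraMap P A (MvPowerSeries.X i)) ∈ J := fun i =>
    Ideal.mem_map_of_mem _ (hXm i)
  obtain ⟨ψ', hψ'⟩ := GrothLib.RegLoc.PS.exists_algHom (A := k') J _ hX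
  have hP : ψ'.toRingHom.comp (MvPowerSeries.map (algebraMap k k')) = algebraMap P A' := by
    refine mvPowerSeries_hom_ext J (fun c => ?_) (fun i => ?_) fun i => ?_
    · show ψ' (MvPowerSeries.map (algebraMap k k') (MvPowerSeries.C c)) =
        algebraMap A A' (algebraMap P A (MvPowerSeries.C c))
      rw [MvPowerSeries.map_C, show (MvPowerSeries.C (algebraMap k k' c) : P') = algebraMap k' P' (algebraMap k k' c) by
        simp [P', MvPowerSeries.algebraMap_apply], AlgHom.commutes,
        show (MvPowerSeries.C c : P) = algebraMap k P c by simp [P, MvPowerSeries.algebraMap_apply],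
        ← IsScalarTower.algebraMap_apply k P A]
      show algebraMap (A ⊗[k] k') A' ((1 : A) ⊗ₜ[k] algebraMap k k' c) =
        algebraMap (A ⊗[k] k') A' (algebraMap k A c ⊗ₜ[k] (1 : k'))
      rw [Algebra.algebraMap_eq_smul_one c, Algebra.algebraMap_eq_smul_one (A := A) c, TensorProduct.smul_tmul]
    · show ψ' (MvPowerSeries.map (algebraMap k k') (MvPowerSeries.X i)) = _
      rw [MvPowerSeries.map_X, hψ']
      rfl
    · show ψ' (MvPowerSeries.map (algebraMap k k') (MvPowerSeries.X i)) ∈ J
      rw [MvPowerSeries.map_X, hψ']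
      exact hX i
  let ψP : P' →ₐ[P] A' := { ψ'.toRingHom with commutes' := fun f => RingHom.congr_fun hP f }
  let ιA : A →ₐ[P] A' := { algebraMap A A' with commutes' := fun f => (algebraMap_eq k A k' (algebraMap P A f)).trans rfl }
  let Ψ : C' →ₐ[P] A' := Algebra.TensorProduct.lift ψP ιA fun x y => Commute.all _ _
  have hΨ : ∀ (f : P') (a : A), Ψ (f ⊗ₜ a) = ψ' f * algebraMap A A' a := fun f a =>
    Algebra.TensorProduct.lift_tmul _ _ _ f a
  -- the map from the tensor product
  haveI : IsScalarTower k P P' := IsScalarTower.of_algebraMap_eq fun c => by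
    show algebraMap k P' c = MvPowerSeries.map (algebraMap k k') (algebraMap k P c)
    simp [P, P', MvPowerSeries.algebraMap_apply]
  let φA : A →ₐ[k] C' := (Algebra.TensorProduct.includeRight : A →ₐ[P] C').restrictScalars k
  let φk : k' →ₐ[k] C' := (IsScalarTower.toAlgHom k P' C').comp (IsScalarTower.toAlgHom k k' P')
  let Φ : A ⊗[k] k' →ₐ[k] C' := Algebra.TensorProduct.lift φA φk fun x y => Commute.all _ _
  have hΦ : ∀ (a : A) (c : k'), Φ (a ⊗ₜ c) = ((1 : P') ⊗ₜ[P] a) * (MvPowerSeries.C c ⊗ₜ[P] (1 : A)) := fun a c => by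
    rw [show Φ (a ⊗ₜ c) = φA a * φk c from Algebra.TensorProduct.lift_tmul _ _ _ a c]
    congr 1
  obtain ⟨Φ', hΦ'⟩ := exists_extend (mI k A k') Jc Φ.toRingHom (by
    rw [Ideal.map_map, Ideal.map_le_iff_le_comap]
    intro a ha
    rw [Ideal.mem_comap]
    show Φ (a ⊗ₜ 1) ∈ Jc
    rw [hΦ, map_one, show ((1 : P') ⊗ₜ[P] (1 : A)) = (1 : C') from rfl, mul_one]
    exact Ideal.mem_map_of_mem _ ha)
  have hΨk : ∀ c : k', Ψ (MvPowerSeries.C c ⊗ₜ[P] (1 : A)) = kMap k A k' c := fun c => by
    rw [hΨ, map_one, mul_one, show (MvPowerSeries.C c : P') = algebraMap k' P' c by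
      simp [P', MvPowerSeries.algebraMap_apply], AlgHom.commutes]
    rfl
  have h1 : Ψ.toRingHom.comp Φ' = RingHom.id A' := by
    refine completion_hom_ext _ (mI_fg k A k') J (fun b => ?_) fun b hb => ?_
    · show Ψ (Φ' (algebraMap _ A' b)) = algebraMap _ A' b
      rw [hΦ']
      show Ψ (Φ b) = _
      induction b using TensorProduct.induction_on with
      | zero => simp
      | add x y hx hy => rw [map_add, map_add, hx, hy, map_add]
      | tmul a c =>
        rw [hΦ, map_mul, hΨk, hΨ, map_one, one_mul, algebraMap_eq, kMap_eq, ← map_mul,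
          Algebra.TensorProduct.tmul_mul_tmul, mul_one, one_mul]
    · show Ψ (Φ' (algebraMap _ A' b)) ∈ J
      rw [hΦ']
      show Ψ (Φ b) ∈ J
      have hle : (mI k A k').map (Ψ.toRingHom.comp Φ.toRingHom) ≤ J := by
        rw [Ideal.map_map, Ideal.map_le_iff_le_comap]
        intro a ha
        rw [Ideal.mem_comap]
        show Ψ (Φ (a ⊗ₜ 1)) ∈ J
        rw [hΦ, map_one, show ((1 : P') ⊗ₜ[P] (1 : A)) = (1 : C') from rfl, mul_one, hΨ, map_one, one_mul]
        exact Ideal.mem_map_of_mem _ ha
      exact hle (Ideal.mem_map_of_mem _ hb)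
  have hΦA : ∀ a : A, Φ' (algebraMap A A' a) = (1 : P') ⊗ₜ[P] a := fun a => by
    rw [algebraMap_eq, hΦ']
    show Φ (a ⊗ₜ 1) = _
    rw [hΦ, map_one, show ((1 : P') ⊗ₜ[P] (1 : A)) = (1 : C') from rfl, mul_one]
  have h2 : ∀ x, Φ' (Ψ x) = x := by
    have hP' : Φ'.comp ψ'.toRingHom = algebraMap P' C' := by
      refine mvPowerSeries_hom_ext Jc (fun c => ?_) (fun i => ?_) fun i => ?_
      · show Φ' (ψ' (MvPowerSeries.C c)) = MvPowerSeries.C c ⊗ₜ[P] (1 : A)
        rw [show (MvPowerSeries.C c : P') = algebraMap k' P' c by simp [P', MvPowerSeries.algebraMap_apply],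
          AlgHom.commutes]
        show Φ' (algebraMap _ A' ((1 : A) ⊗ₜ[k] c)) = _
        rw [hΦ']
        show Φ ((1 : A) ⊗ₜ c) = _
        rw [hΦ, show ((1 : P') ⊗ₜ[P] (1 : A)) = (1 : C') from rfl, one_mul]
        simp [P', MvPowerSeries.algebraMap_apply]
      · show Φ' (ψ' (MvPowerSeries.X i)) = (MvPowerSeries.X i : P') ⊗ₜ[P] (1 : A)
        rw [hψ', hΦA, Algebra.algebraMap_eq_smul_one, ← TensorProduct.smul_tmul, Algebra.smul_def, mul_one]
        congr 1
        show MvPowerSeries.map (algebraMap k k') (MvPowerSeries.X i) = MvPowerSeries.X i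
        rw [MvPowerSeries.map_X]
      · show Φ' (ψ' (MvPowerSeries.X i)) ∈ Jc
        rw [hψ', hΦA]
        exact Ideal.mem_map_of_mem _ (hXm i)
    intro x
    induction x using TensorProduct.induction_on with
    | zero => simp
    | add a b ha hb => rw [map_add, map_add, ha, hb]
    | tmul f a =>
      rw [hΨ, map_mul, hΦA, show Φ' (ψ' f) = f ⊗ₜ[P] (1 : A) from RingHom.congr_fun hP' f,
        Algebra.TensorProduct.tmul_mul_tmul, mul_one, one_mul]
  refine ⟨RingEquiv.ofBijective Ψ.toRingHom
    ⟨Function.LeftInverse.injective (g := Φ') h2, fun y => ⟨Φ' y, RingHom.congr_fun h1 y⟩⟩, fun a => ?_, hΨk⟩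
  show Ψ ((1 : P') ⊗ₜ a) = _
  rw [hΨ, map_one, one_mul]

end GrothLib.CTensor
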