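import Groth.Agent.Lib.CTensor.Props
import Groth.Agent.Lib.CKaehler2.Gens
import Groth.Agent.Lib.GRingComplete.Derivation
import Mathlib.Algebra.TrivSqZeroExt.Basic

/-!
# Completed differentials of the completed tensor product

The differential of `A` extends to a `k'`-derivation of a local ring `A₁` of `A ⊗̂_k k'` with values in
`A₁ ⊗_A Ω̂_{A/k}`, so that the latter is a quotient of `Ω̂_{A₁/k'}`.
-/

universe u

open IsLocalRing
open scoped TensorProduct

set_option linter.style.haveILetI false
set_option linter.unusedSectionVars false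

noncomputable section

namespace GrothLib.CTensor

variable (k A k' : Type u) [Field k] [CommRing A] [IsNoetherianRing A] [IsLocalRing A] [Algebra k A]
  [Module.Finite k (ResidueField A)] [IsAdicComplete (maximalIdeal A) A] [Field k'] [Algebra k k']

/-- The residue fields of the local rings are finite over the field. -/
theorem finite_residueField (M : Ideal (CT k A k')) [M.IsMaximal] [Algebra k' (Localization.AtPrime M)]
    (hk : ∀ c, algebraMap k' (Localization.AtPrime M) c =
      algebraMap (CT k A k') (Localization.AtPrime M) (kMap k A k' c)) :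
    Module.Finite k' (ResidueField (Localization.AtPrime M)) := by
  let A₁ := Localization.AtPrime M
  have hsurj := ((localizations k A k').2 ⟨M, inferInstance⟩).2.2
  have hM : ∀ x ∈ M, ((residue A₁).comp (algebraMap (CT k A k') A₁)) x = 0 := fun x hx => by
    rw [RingHom.comp_apply, residue_eq_zero_iff]
    exact (IsLocalization.AtPrime.to_map_mem_maximal_iff A₁ M x).2 hx
  let ψ : CT k A k' ⧸ M →+* ResidueField A₁ := Ideal.Quotient.lift M _ hM
  have hψ : Function.Surjective ψ :=
    Ideal.Quotient.lift_surjective_of_surjective M hM (residue_surjective.comp hsurj)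
  rw [← RingHom.finite_algebraMap]
  have h : algebraMap k' (ResidueField A₁) = ψ.comp ((Ideal.Quotient.mk M).comp (kMap k A k')) := by
    ext c
    rw [IsScalarTower.algebraMap_apply k' A₁ (ResidueField A₁), hk]
    rfl
  rw [h]
  exact (RingHom.Finite.of_surjective ψ hψ).comp (finite_quotient k A k' M)

section Generic

variable {B A₁ N : Type u} [CommRing B] (I : Ideal B) [CommRing A₁] [IsLocalRing A₁] [IsNoetherianRing A₁]
  [IsAdicComplete (maximalIdeal A₁) A₁] [AddCommGroup N] [Module A₁ N] [Module A₁ᵐᵒᵖ N] [IsCentralScalar A₁ N]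
  [Module.Finite A₁ N] [Algebra (AdicCompletion I B) A₁]

set_option synthInstance.maxHeartbeats 100000 in
/-- Maps to square zero extensions of a complete local ring of a completion extend to it. -/
theorem exists_sqZero_lift (hI : I.FG) (S : Submonoid (AdicCompletion I B)) [IsLocalization S A₁]
    (hsurj : Function.Surjective (algebraMap (AdicCompletion I B) A₁))
    (φ : B →+* TrivSqZeroExt A₁ N)
    (hfst : ∀ b, (φ b).fst = algebraMap (AdicCompletion I B) A₁ (algebraMap B (AdicCompletion I B) b))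
    (hm : ∀ b ∈ I, (φ b).fst ∈ maximalIdeal A₁) :
    ∃ ψ : A₁ →+* TrivSqZeroExt A₁ N, (∀ x, (ψ x).fst = x) ∧
      ∀ b, ψ (algebraMap (AdicCompletion I B) A₁ (algebraMap B (AdicCompletion I B) b)) = φ b := by
  let m₁ := maximalIdeal A₁
  haveI : Module.Finite A₁ (TrivSqZeroExt A₁ N) := inferInstanceAs (Module.Finite A₁ (A₁ × N))
  let J0 := m₁.map (algebraMap A₁ (TrivSqZeroExt A₁ N))
  let H : Ideal (TrivSqZeroExt A₁ N) := m₁.comap (TrivSqZeroExt.fstHom A₁ A₁ N)
  haveI : IsAdicComplete J0 (TrivSqZeroExt A₁ N) :=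
    (IsAdicComplete.map_algebraMap_iff m₁ _).mpr (GrothLib.AdicLim.isAdicComplete_of_finite m₁ _)
  haveI hH : IsAdicComplete H (TrivSqZeroExt A₁ N) := by
    refine GrothLib.AdicLim.isAdicComplete_of_le_of_pow_le (J := J0) (k := 2) ?_ ?_ _
    · refine Ideal.map_le_iff_le_comap.2 fun x hx => ?_
      exact hx
    · rw [pow_two, Ideal.mul_le]
      intro x hx y hy
      have hx' : algebraMap A₁ (TrivSqZeroExt A₁ N) x.fst ∈ J0 := Ideal.mem_map_of_mem _ hx
      have hy' : algebraMap A₁ (TrivSqZeroExt A₁ N) y.fst ∈ J0 := Ideal.mem_map_of_mem _ hy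
      have e : x * y = algebraMap A₁ _ x.fst * y + TrivSqZeroExt.inr x.snd * algebraMap A₁ _ y.fst := by
        rw [TrivSqZeroExt.algebraMap_eq_inl]
        refine TrivSqZeroExt.ext ?_ ?_
        · simp
        · simp
      rw [e]
      exact add_mem (Ideal.mul_mem_right _ _ hx') (Ideal.mul_mem_left _ _ hy')
  obtain ⟨ψ, hψ⟩ := exists_extend I H φ (Ideal.map_le_iff_le_comap.2 fun b hb => hm b hb)
  have hf : (TrivSqZeroExt.fstHom A₁ A₁ N).toRingHom.comp ψ = algebraMap (AdicCompletion I B) A₁ := by
    refine completion_hom_ext I hI m₁ (fun b => ?_) fun b hb => ?_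
    · show (ψ (algebraMap _ _ b)).fst = _
      rw [hψ, hfst]
    · show (ψ (algebraMap _ _ b)).fst ∈ m₁
      rw [hψ]
      exact hm b hb
  have hf' : ∀ z, (ψ z).fst = algebraMap (AdicCompletion I B) A₁ z := RingHom.congr_fun hf
  have hu : ∀ y : S, IsUnit (ψ y) := fun y => by
    rw [TrivSqZeroExt.isUnit_iff_isUnit_fst, hf']
    exact IsLocalization.map_units A₁ y
  refine ⟨IsLocalization.lift hu, fun x => ?_, fun b => by rw [IsLocalization.lift_eq, hψ]⟩
  obtain ⟨z, rfl⟩ := hsurj x
  rw [IsLocalization.lift_eq, hf']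

end Generic

set_option synthInstance.maxHeartbeats 100000 in
/-- `A₁ ⊗ Ω̂_{A/k}` is a quotient of `Ω̂_{A₁/k'}`. -/
theorem exists_surjective_om (M : Ideal (CT k A k')) [M.IsMaximal] [Algebra k' (Localization.AtPrime M)]
    (hk : ∀ c, algebraMap k' (Localization.AtPrime M) c =
      algebraMap (CT k A k') (Localization.AtPrime M) (kMap k A k' c)) :
    ∃ L : GrothLib.CKaehler2.Om k' (Localization.AtPrime M) →ₗ[Localization.AtPrime M]
      Localization.AtPrime M ⊗[A] GrothLib.CKaehler2.Om k A, Function.Surjective L := by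
  classical
  let A₁ := Localization.AtPrime M
  obtain ⟨hnoeth, hcomp, hsurj⟩ := (localizations k A k').2 ⟨M, inferInstance⟩
  haveI : IsNoetherianRing A₁ := hnoeth
  haveI : IsAdicComplete (maximalIdeal A₁) A₁ := hcomp
  haveI : Module.Finite k' (ResidueField A₁) := finite_residueField k A k' M hk
  haveI := GrothLib.CKaehler2.finite_kaehler_residueField k A
  haveI := GrothLib.CKaehler2.finite_om' k A
  haveI := GrothLib.CKaehler2.finite_kaehler_residueField k' A₁
  haveI hloc : IsLocalHom (algebraMap A A₁) := isLocalHom k A k' M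
  let W := GrothLib.CKaehler2.Om k A
  let N := A₁ ⊗[A] W
  haveI : Module.Finite A₁ N := Module.Finite.base_change A A₁ W
  haveI : Module.Finite A₁ (TrivSqZeroExt A₁ N) := inferInstanceAs (Module.Finite A₁ (A₁ × N))
  let m₁ := maximalIdeal A₁
  -- the two ring maps
  let dA : A → (TrivSqZeroExt A₁ N) := fun a =>
    TrivSqZeroExt.inl (algebraMap A A₁ a) + TrivSqZeroExt.inr ((1 : A₁) ⊗ₜ[A] GrothLib.CKaehler2.dhat k A a)
  let f : A →+* (TrivSqZeroExt A₁ N) :=
    { toFun := dA
      map_one' := by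
        refine TrivSqZeroExt.ext ?_ ?_ <;> simp [dA]
      map_mul' := fun a b => by
        refine TrivSqZeroExt.ext ?_ ?_
        · simp [dA]
        · simp only [dA, TrivSqZeroExt.snd_add, TrivSqZeroExt.snd_inl, TrivSqZeroExt.snd_inr, zero_add,
            TrivSqZeroExt.snd_mul, TrivSqZeroExt.fst_add, TrivSqZeroExt.fst_inl, TrivSqZeroExt.fst_inr, add_zero,
            Derivation.leibniz, op_smul_eq_smul, TensorProduct.tmul_add, TensorProduct.tmul_smul, algebraMap_smul]
      map_zero' := by
        refine TrivSqZeroExt.ext ?_ ?_ <;> simp [dA]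
      map_add' := fun a b => by
        refine TrivSqZeroExt.ext ?_ ?_ <;> simp [dA, TensorProduct.tmul_add] <;> abel }
  let g : k' →+* (TrivSqZeroExt A₁ N) := (TrivSqZeroExt.inlHom A₁ N).comp (algebraMap k' A₁)
  have hfg : ∀ r, f (algebraMap k A r) = g (algebraMap k k' r) := fun r => by
    refine TrivSqZeroExt.ext ?_ ?_
    · show TrivSqZeroExt.fst (dA (algebraMap k A r)) = _
      simp only [dA, g, TrivSqZeroExt.fst_add, TrivSqZeroExt.fst_inl, TrivSqZeroExt.fst_inr, add_zero,
        RingHom.comp_apply]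
      show algebraMap A A₁ (algebraMap k A r) =
        TrivSqZeroExt.fst (TrivSqZeroExt.inl (algebraMap k' A₁ (algebraMap k k' r)) : TrivSqZeroExt A₁ N)
      rw [TrivSqZeroExt.fst_inl, hk, kMap_eq, IsScalarTower.algebraMap_apply A (CT k A k') A₁, algebraMap_eq,
        Algebra.algebraMap_eq_smul_one r, Algebra.algebraMap_eq_smul_one (A := k') r, TensorProduct.smul_tmul]
    · show TrivSqZeroExt.snd (dA (algebraMap k A r)) = TrivSqZeroExt.snd (TrivSqZeroExt.inl (algebraMap k' A₁ _))
      simp [dA]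
  obtain ⟨φ, hφ⟩ := GrothLib.GRingComplete.exists_tensor_ringHom f g hfg
  obtain ⟨ψ₁, hfst₁, hψ₁⟩ := exists_sqZero_lift (mI k A k') (mI_fg k A k') M.primeCompl hsurj φ (fun b => by
      induction b using TensorProduct.induction_on with
      | zero => simp
      | add x y hx hy => rw [map_add, TrivSqZeroExt.fst_add, hx, hy, map_add, map_add]
      | tmul a c =>
        rw [hφ, TrivSqZeroExt.fst_mul]
        show TrivSqZeroExt.fst (dA a) * TrivSqZeroExt.fst (TrivSqZeroExt.inl (algebraMap k' A₁ c)) = _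
        simp only [dA, TrivSqZeroExt.fst_add, TrivSqZeroExt.fst_inl, TrivSqZeroExt.fst_inr, add_zero]
        rw [hk, IsScalarTower.algebraMap_apply A (CT k A k') A₁, ← map_mul, algebraMap_eq, kMap_eq, ← map_mul,
          Algebra.TensorProduct.tmul_mul_tmul, mul_one, one_mul])
    (fun b hb => by
      have : mI k A k' ≤ m₁.comap ((TrivSqZeroExt.fstHom A₁ A₁ N).toRingHom.comp φ) := by
        refine Ideal.map_le_iff_le_comap.2 fun a ha => ?_
        rw [Ideal.mem_comap, Ideal.mem_comap]
        show TrivSqZeroExt.fst (φ (a ⊗ₜ 1)) ∈ m₁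
        rw [hφ, map_one, mul_one]
        show TrivSqZeroExt.fst (dA a) ∈ m₁
        simp only [dA, TrivSqZeroExt.fst_add, TrivSqZeroExt.fst_inl, TrivSqZeroExt.fst_inr, add_zero]
        exact map_nonunit (algebraMap A A₁) a ha
      exact this hb)
  have hc : ∀ c : k', ψ₁ (algebraMap k' A₁ c) = TrivSqZeroExt.inl (algebraMap k' A₁ c) := fun c => by
    rw [hk, kMap_eq, hψ₁, hφ, map_one, one_mul]
    show TrivSqZeroExt.inl (algebraMap k' A₁ c) = _
    rw [hk, kMap_eq]
  haveI : SMulCommClass A k' A₁ := ⟨fun a c x => by simp [Algebra.smul_def, mul_left_comm]⟩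
  let D : Derivation k' A₁ N := Derivation.mk'
    { toFun := fun x => TrivSqZeroExt.snd (ψ₁ x)
      map_add' := fun x y => by rw [map_add, TrivSqZeroExt.snd_add]
      map_smul' := fun c x => by
        rw [Algebra.smul_def, map_mul, hc, TrivSqZeroExt.snd_mul, TrivSqZeroExt.fst_inl, TrivSqZeroExt.snd_inl,
          smul_zero, add_zero, RingHom.id_apply, algebraMap_smul] }
    fun x y => by
      show TrivSqZeroExt.snd (ψ₁ (x * y)) = x • TrivSqZeroExt.snd (ψ₁ y) + y • TrivSqZeroExt.snd (ψ₁ x)
      rw [map_mul, TrivSqZeroExt.snd_mul, hfst₁, hfst₁, op_smul_eq_smul]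
  refine ⟨GrothLib.CKaehler2.lift k' A₁ D, fun z => ?_⟩
  have hz : ∀ w : W, (1 : A₁) ⊗ₜ[A] w ∈ LinearMap.range (GrothLib.CKaehler2.lift k' A₁ D) := by
    intro w
    have hw : w ∈ Submodule.span A (Set.range (GrothLib.CKaehler2.dhat k A)) := by
      rw [GrothLib.CKaehler2.span_dhat]; trivial
    induction hw using Submodule.span_induction with
    | mem y hy =>
      obtain ⟨a, rfl⟩ := hy
      refine ⟨GrothLib.CKaehler2.dhat k' A₁ (algebraMap A A₁ a), ?_⟩
      rw [GrothLib.CKaehler2.lift_dhat]
      show TrivSqZeroExt.snd (ψ₁ (algebraMap A A₁ a)) = _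
      rw [IsScalarTower.algebraMap_apply A (CT k A k') A₁, algebraMap_eq, hψ₁, hφ, map_one, mul_one]
      show TrivSqZeroExt.snd (dA a) = _
      simp [dA]
    | zero => rw [TensorProduct.tmul_zero]; exact Submodule.zero_mem _
    | add y z _ _ hy hz => rw [TensorProduct.tmul_add]; exact Submodule.add_mem _ hy hz
    | smul a y _ hy =>
      rw [TensorProduct.tmul_smul, ← algebraMap_smul A₁ a]
      exact Submodule.smul_mem _ _ hy
  induction z using TensorProduct.induction_on with
  | zero => exact ⟨0, map_zero _⟩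
  | add x y hx hy => obtain ⟨a, rfl⟩ := hx; obtain ⟨b, rfl⟩ := hy; exact ⟨a + b, map_add _ _ _⟩
  | tmul c w =>
    have : c ⊗ₜ[A] w = c • ((1 : A₁) ⊗ₜ[A] w) := by rw [TensorProduct.smul_tmul', smul_eq_mul, mul_one]
    rw [this]
    exact Submodule.smul_mem _ c (hz w)

end GrothLib.CTensor
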