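import Groth.Agent.Lib.CKaehler2.PowerSeries
import Groth.Agent.Lib.AdicExtra.TensorFlat
import Mathlib.RingTheory.AdicCompletion.RingHom

/-!
# Uniqueness of maps out of power series rings and completions
-/

universe u

open IsLocalRing
open scoped TensorProduct

noncomputable section

namespace GrothLib.CTensor

/-- Ring maps out of a power series ring into a separated ring are fixed by constants and variables. -/
theorem mvPowerSeries_hom_ext {k R : Type u} [CommRing k] [CommRing R] {d : ℕ} (H : Ideal R) [IsHausdorff H R]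
    {φ₁ φ₂ : MvPowerSeries (Fin d) k →+* R} (hC : ∀ c, φ₁ (MvPowerSeries.C c) = φ₂ (MvPowerSeries.C c))
    (hX : ∀ i, φ₁ (MvPowerSeries.X i) = φ₂ (MvPowerSeries.X i)) (hm : ∀ i, φ₁ (MvPowerSeries.X i) ∈ H) :
    φ₁ = φ₂ := by
  refine RingHom.ext fun f => IsHausdorff.eq_iff_smodEq (I := H).2 fun n => ?_
  rw [SModEq.sub_mem, smul_eq_mul, Ideal.mul_top]
  have hpoly : ∀ g : MvPolynomial (Fin d) k, φ₁ g = φ₂ g := by
    intro g
    induction g using MvPolynomial.induction_on with
    | C c => rw [MvPolynomial.coe_C, hC]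
    | add a b ha hb => rw [MvPolynomial.coe_add, map_add, map_add, ha, hb]
    | mul_X a i ha => rw [MvPolynomial.coe_mul, MvPolynomial.coe_X, map_mul, map_mul, ha, hX]
  have hf := GrothLib.AdicFS.sub_truncTotal_mem (A := k) f n
  rw [MvPowerSeries.algebraMap_apply'] at hf
  have key : ∀ φ : MvPowerSeries (Fin d) k →+* R, (∀ i, φ (MvPowerSeries.X i) ∈ H) →
      ∀ z ∈ GrothLib.AdicFS.varsIdeal k d ^ n, φ z ∈ H ^ n := by
    intro φ hφ z hz
    have h1 := Ideal.mem_map_of_mem φ hz
    rw [Ideal.map_pow] at h1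
    refine Ideal.pow_right_mono ?_ n h1
    rw [GrothLib.AdicFS.varsIdeal, MvPolynomial.idealOfVars, Ideal.map_span, Ideal.map_span, Ideal.span_le]
    rintro _ ⟨_, ⟨_, ⟨i, rfl⟩, rfl⟩, rfl⟩
    rw [MvPowerSeries.algebraMap_apply']
    simpa using hφ i
  have h1 := key φ₁ hm _ hf
  have h2 := key φ₂ (fun i => hX i ▸ hm i) _ hf
  simp only [MvPowerSeries.map_id, RingHom.id_apply, Algebra.algebraMap_self] at h1 h2
  rw [map_sub] at h1 h2
  have h3 := sub_mem h1 h2
  rwa [hpoly, sub_sub_sub_cancel_right] at h3

variable {B R : Type u} [CommRing B] [CommRing R] (I : Ideal B)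

/-- An element of a completion is congruent to one of the ring modulo every power. -/
theorem exists_sub_mem_pow (hI : I.FG) (x : AdicCompletion I B) (n : ℕ) :
    ∃ b : B, x - algebraMap B (AdicCompletion I B) b ∈ (I.map (algebraMap B (AdicCompletion I B))) ^ n := by
  obtain ⟨b, hb⟩ := Submodule.Quotient.mk_surjective _ (AdicCompletion.eval I B n x)
  refine ⟨b, ?_⟩
  have h1 : x - algebraMap B (AdicCompletion I B) b ∈ (I ^ n • ⊤ : Submodule B (AdicCompletion I B)) := by
    rw [AdicCompletion.pow_smul_top_eq_ker_eval hI, LinearMap.mem_ker, map_sub, ← hb, sub_eq_zero]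
    simp [AdicCompletion.algebraMap_apply, AdicCompletion.eval]
  rw [Ideal.smul_top_eq_map, Submodule.restrictScalars_mem, Ideal.map_pow] at h1
  exact h1

/-- Ring maps out of a completion into a separated ring are fixed on the ring. -/
theorem completion_hom_ext (hI : I.FG) (H : Ideal R) [IsHausdorff H R] {φ₁ φ₂ : AdicCompletion I B →+* R}
    (h : ∀ b, φ₁ (algebraMap B (AdicCompletion I B) b) = φ₂ (algebraMap B (AdicCompletion I B) b))
    (hm : ∀ b ∈ I, φ₁ (algebraMap B (AdicCompletion I B) b) ∈ H) : φ₁ = φ₂ := by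
  refine RingHom.ext fun x => IsHausdorff.eq_iff_smodEq (I := H).2 fun n => ?_
  rw [SModEq.sub_mem, smul_eq_mul, Ideal.mul_top]
  obtain ⟨b, hb⟩ := exists_sub_mem_pow I hI x n
  have key : ∀ φ : AdicCompletion I B →+* R, (∀ b ∈ I, φ (algebraMap B (AdicCompletion I B) b) ∈ H) →
      φ (x - algebraMap B (AdicCompletion I B) b) ∈ H ^ n := by
    intro φ hφ
    have h1 := Ideal.mem_map_of_mem φ hb
    rw [Ideal.map_pow, Ideal.map_map] at h1
    exact Ideal.pow_right_mono (Ideal.map_le_iff_le_comap.2 fun c hc => Ideal.mem_comap.2 (hφ c hc)) n h1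
  have h3 := sub_mem (key φ₁ hm) (key φ₂ fun c hc => h c ▸ hm c hc)
  rwa [map_sub, map_sub, h b, sub_sub_sub_cancel_right] at h3

/-- A ring map into a complete ring extends to the completion. -/
theorem exists_extend (H : Ideal R) [IsAdicComplete H R] (φ : B →+* R) (hφ : I.map φ ≤ H) :
    ∃ ψ : AdicCompletion I B →+* R, ∀ b, ψ (algebraMap B (AdicCompletion I B) b) = φ b := by
  have hle : ∀ n, I ^ n ≤ (H ^ n).comap φ := fun n =>
    Ideal.map_le_iff_le_comap.1 ((Ideal.map_pow φ I n).trans_le (Ideal.pow_right_mono hφ n))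
  let f : ∀ n, AdicCompletion I B →+* R ⧸ H ^ n := fun n =>
    (Ideal.quotientMap (H ^ n) φ (hle n)).comp (AdicCompletion.evalₐ I n).toRingHom
  have hf : ∀ {a c : ℕ} (h : a ≤ c),
      (Ideal.Quotient.factor (Ideal.pow_le_pow_right h)).comp (f c) = f a := fun {a c} h => by
    refine RingHom.ext fun x => ?_
    induction x using AdicCompletion.induction_on with
    | _ s =>
      have h2 := s.2 h
      rw [SModEq.sub_mem, smul_eq_mul, Ideal.mul_top] at h2
      simp only [f, RingHom.comp_apply, AlgHom.toRingHom_eq_coe, RingHom.coe_coe, AdicCompletion.evalₐ_mk,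
        Ideal.quotientMap_mk, Ideal.Quotient.factor_mk]
      rw [eq_comm, Ideal.Quotient.eq, ← map_sub]
      exact hle a h2
  refine ⟨IsAdicComplete.liftRingHom H f hf, fun b => IsHausdorff.eq_iff_smodEq (I := H).2 fun n => ?_⟩
  rw [SModEq.sub_mem, smul_eq_mul, Ideal.mul_top, ← Ideal.Quotient.eq, IsAdicComplete.mk_liftRingHom]
  simp [f, AdicCompletion.algebraMap_apply]

variable (A : Type u) [CommRing A] [Algebra A B]

/-- The completion of an algebra as a module agrees with that as a ring. -/
theorem exists_completion_equiv (m : Ideal A) :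
    Nonempty (AdicCompletion m B ≃ₗ[A] AdicCompletion (m.map (algebraMap A B)) B) := by
  have heq : ∀ n, (m ^ n • ⊤ : Submodule A B) =
      ((m.map (algebraMap A B)) ^ n • ⊤ : Submodule B B).restrictScalars A := fun n => by
    rw [Ideal.smul_top_eq_map, Ideal.map_pow, smul_eq_mul, Ideal.mul_top]
  let e : ∀ n, (B ⧸ (m ^ n • ⊤ : Submodule A B)) ≃ₗ[A] B ⧸ ((m.map (algebraMap A B)) ^ n • ⊤ : Submodule B B) :=
    fun n => (Submodule.quotEquivOfEq _ _ (heq n)).trans (Submodule.Quotient.restrictScalarsEquiv A _)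
  have he : ∀ n b, e n (Submodule.Quotient.mk b) = Submodule.Quotient.mk b := fun n b => rfl
  have hcompat : ∀ {a c : ℕ} (h : a ≤ c) (z : B ⧸ (m ^ c • ⊤ : Submodule A B)),
      AdicCompletion.transitionMap (m.map (algebraMap A B)) B h (e c z) =
        e a (AdicCompletion.transitionMap m B h z) := fun {a c} h z => by
    obtain ⟨b, rfl⟩ := Submodule.Quotient.mk_surjective _ z
    rfl
  refine ⟨{ toFun := fun x => ⟨fun n => e n (x.1 n), fun {a c} h => by rw [hcompat h, x.2 h]⟩
            map_add' := fun x y => AdicCompletion.ext fun n => map_add (e n) _ _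
            map_smul' := fun r x => AdicCompletion.ext fun n => map_smul (e n) r _
            invFun := fun x => ⟨fun n => (e n).symm (x.1 n), fun {a c} h => (e a).injective (by
              rw [← hcompat h, LinearEquiv.apply_symm_apply, LinearEquiv.apply_symm_apply, x.2 h])⟩
            left_inv := fun x => AdicCompletion.ext fun n => (e n).symm_apply_apply _
            right_inv := fun x => AdicCompletion.ext fun n => (e n).apply_symm_apply _ }⟩

/-- The completion of a flat algebra along an ideal of a noetherian base is flat. -/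
theorem flat_completion [IsNoetherianRing A] [Module.Flat A B] (m : Ideal A) :
    Module.Flat A (AdicCompletion (m.map (algebraMap A B)) B) := by
  obtain ⟨e⟩ := exists_completion_equiv (B := B) A m
  haveI := GrothLib.AdicExtra.flat_adicCompletion_of_flat m B
  exact Module.Flat.of_linearEquiv e.symm

end GrothLib.CTensor
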