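import Groth.Agent.Lib.CTensor.Reg
import Groth.Agent.Lib.CTensor.Der
import Groth.Agent.Lib.CKaehler2.GeomFree3
import Groth.Agent.S5054
import Groth.Agent.Lib.Serre.Regular
import Groth.Agent.Lib.Dim.Ring

/-!
# Freeness of the completed differentials and regularity of completed base changes
-/

universe u

open IsLocalRing
open scoped TensorProduct

set_option linter.style.haveILetI false
set_option linter.unusedSectionVars false

noncomputable section

namespace GrothLib.CTensor

open GrothLib.CKaehler2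

/-- A ring of finite dimension has a minimal prime of full dimension. -/
theorem exists_minimal_full {C : Type u} [CommRing C] {n : ℕ} (hn : ringKrullDim C = n) :
    ∃ Q ∈ minimalPrimes C, ringKrullDim C ≤ ringKrullDim (C ⧸ Q) := by
  obtain ⟨l, hl⟩ := Order.le_krullDim_iff.mp hn.ge
  obtain ⟨Q, hQ, hQl⟩ := Ideal.exists_minimalPrimes_le (I := (⊥ : Ideal C)) (J := l.head.asIdeal) bot_le
  haveI := hQ.1.1
  refine ⟨Q, hQ, ?_⟩
  have hle : ∀ i, Q ≤ (l i).asIdeal := fun i =>
    hQl.trans (show l.head ≤ l i from l.monotone (Fin.zero_le _))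
  let l' : LTSeries (PrimeSpectrum (C ⧸ Q)) := LTSeries.mk l.length
    (fun i => ⟨(l i).asIdeal.map (Ideal.Quotient.mk Q),
      Ideal.map_isPrime_of_surjective Ideal.Quotient.mk_surjective (by rw [Ideal.mk_ker]; exact hle i)⟩)
    fun i j hij => by
      refine lt_of_le_not_ge (Ideal.map_mono (l.monotone hij.le : l i ≤ l j)) fun h => ?_
      have h' : (l j).asIdeal ≤ (l i).asIdeal := fun c hc =>
        (Ideal.mem_quotient_iff_mem (hle i)).mp (h (Ideal.mem_map_of_mem _ hc))
      exact (not_le_of_gt (l.strictMono hij)) h'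
  rw [hn, ← hl]
  exact Order.LTSeries.length_le_krullDim l'

/-- An element killed away from a prime lies in every prime below it. -/
theorem mem_of_algebraMap_eq_zero {R : Type u} [CommRing R] {p Q : Ideal R} [p.IsPrime] (hQ : Q.IsPrime) (hQp : Q ≤ p)
    {x : R} (hx : algebraMap R (Localization.AtPrime p) x = 0) : x ∈ Q := by
  obtain ⟨⟨s, hs⟩, hsx⟩ := (IsLocalization.map_eq_zero_iff p.primeCompl _ x).1 hx
  exact (hQ.mem_or_mem (show s * x ∈ Q from (show s * x = 0 from hsx) ▸ Q.zero_mem)).resolve_left fun h => hs (hQp h)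

variable (k A : Type u) [Field k] [CommRing A] [IsLocalRing A] [IsNoetherianRing A] [Algebra k A]
  [IsAdicComplete (maximalIdeal A) A] [Module.Finite k (ResidueField A)]

/-- Proper quotients keep the hypotheses. -/
theorem quotient_instances' (I : Ideal A) [Nontrivial (A ⧸ I)] :
    ∃ (_ : IsLocalRing (A ⧸ I)), IsAdicComplete (maximalIdeal (A ⧸ I)) (A ⧸ I) ∧
      Module.Finite k (ResidueField (A ⧸ I)) := by
  haveI : IsLocalRing (A ⧸ I) := IsLocalRing.of_surjective' (Ideal.Quotient.mk I) Ideal.Quotient.mk_surjective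
  haveI : IsLocalHom (algebraMap A (A ⧸ I)) := IsLocalHom.of_surjective _ Ideal.Quotient.mk_surjective
  refine ⟨inferInstance, ?_, ?_⟩
  · haveI := GrothLib.AdicLim.isAdicComplete_of_finite (maximalIdeal A) (A ⧸ I)
    rw [show maximalIdeal (A ⧸ I) = (maximalIdeal A).map (algebraMap A (A ⧸ I)) from
      ((IsLocalRing.map_maximalIdeal_of_surjective (Ideal.Quotient.mk I) Ideal.Quotient.mk_surjective)).symm]
    exact (IsAdicComplete.map_algebraMap_iff (maximalIdeal A) (A ⧸ I)).mpr inferInstance
  · haveI : Module.Finite k (A ⧸ maximalIdeal A) := ‹Module.Finite k (ResidueField A)›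
    refine Module.Finite.of_surjective
      (Ideal.Quotient.liftₐ (maximalIdeal A) ((IsScalarTower.toAlgHom k (A ⧸ I) (ResidueField (A ⧸ I))).comp
        (Ideal.Quotient.mkₐ k I))
        fun a ha => (residue_eq_zero_iff _).mpr (map_nonunit (algebraMap A (A ⧸ I)) a ha)).toLinearMap (fun y => ?_)
    obtain ⟨y, rfl⟩ := residue_surjective y
    obtain ⟨a, rfl⟩ := Ideal.Quotient.mk_surjective y
    exact ⟨Ideal.Quotient.mk _ a, rfl⟩

variable (p : Ideal A) [p.IsPrime]

/-- The kernel of `A → A_p`. -/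
abbrev locKer : Ideal A := RingHom.ker (algebraMap A (Localization.AtPrime p))

theorem locKer_le : locKer A p ≤ p := fun _ hx =>
  mem_of_algebraMap_eq_zero inferInstance le_rfl (RingHom.mem_ker.1 hx)

/-- The prime in the union of the components through it. -/
abbrev pBar : Ideal (A ⧸ locKer A p) := p.map (Ideal.Quotient.mk (locKer A p))

theorem comap_pBar : (pBar A p).comap (Ideal.Quotient.mk (locKer A p)) = p := by
  rw [Ideal.comap_map_of_surjective _ Ideal.Quotient.mk_surjective, ← RingHom.ker_eq_comap_bot, Ideal.mk_ker,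
    sup_eq_left]
  exact locKer_le A p

theorem isPrime_pBar : (pBar A p).IsPrime :=
  Ideal.map_isPrime_of_surjective Ideal.Quotient.mk_surjective (by rw [Ideal.mk_ker]; exact locKer_le A p)

/-- The union of the components through a prime has the dimension of the largest of them. -/
theorem exists_component {n : ℕ} (hn₁ : ∀ q ∈ minimalPrimes A, q ≤ p → ringKrullDim (A ⧸ q) ≤ n)
    (hn₂ : ∃ q ∈ minimalPrimes A, q ≤ p ∧ ringKrullDim (A ⧸ q) = n) :
    ringKrullDim (A ⧸ locKer A p) = n ∧
      ∃ Q ∈ minimalPrimes (A ⧸ locKer A p), Q ≤ pBar A p ∧ ringKrullDim ((A ⧸ locKer A p) ⧸ Q) = n := by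
  haveI := isPrime_pBar A p
  haveI : Nontrivial (A ⧸ locKer A p) := Ideal.Quotient.nontrivial_iff.2 fun h =>
    (inferInstance : p.IsPrime).ne_top (top_le_iff.1 (h ▸ locKer_le A p))
  haveI : IsLocalRing (A ⧸ locKer A p) :=
    IsLocalRing.of_surjective' (Ideal.Quotient.mk _) Ideal.Quotient.mk_surjective
  obtain ⟨m, hm⟩ := exists_dim (A ⧸ locKer A p)
  obtain ⟨Q, hQ, hdQ⟩ := exists_minimal_full hm
  haveI := hQ.1.1
  let π := Ideal.Quotient.mk (locKer A p)
  let q := Q.comap π
  have hQp : Q ≤ pBar A p := by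
    intro x hx
    obtain ⟨x, rfl⟩ := Ideal.Quotient.mk_surjective x
    by_contra hxp
    have hxp' : x ∉ p := fun h => hxp (Ideal.mem_map_of_mem _ h)
    refine Set.disjoint_left.1 (Ideal.disjoint_nonZeroDivisors_of_mem_minimalPrimes hQ) hx ?_
    rw [SetLike.mem_coe, mem_nonZeroDivisors_iff_right]
    intro y hy
    obtain ⟨y, rfl⟩ := Ideal.Quotient.mk_surjective y
    rw [← map_mul, Ideal.Quotient.eq_zero_iff_mem, RingHom.mem_ker, map_mul] at hy
    rw [Ideal.Quotient.eq_zero_iff_mem, RingHom.mem_ker]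
    exact (IsLocalization.map_units (Localization.AtPrime p) (⟨x, hxp'⟩ : p.primeCompl)).mul_left_eq_zero.1 hy
  have hqp : q ≤ p := (Ideal.comap_mono hQp).trans (comap_pBar A p).le
  have hker : locKer A p ≤ q := fun x hx => by
    show π x ∈ Q
    rw [Ideal.Quotient.eq_zero_iff_mem.2 hx]
    exact Q.zero_mem
  have hqm : q ∈ minimalPrimes A := by
    refine ⟨⟨inferInstance, bot_le⟩, fun q₀ hq₀ hle => ?_⟩
    have hk0 : locKer A p ≤ q₀ := fun x hx =>
      mem_of_algebraMap_eq_zero hq₀.1 (hle.trans hqp) (RingHom.mem_ker.1 hx)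
    haveI := hq₀.1
    haveI : (q₀.map π).IsPrime := Ideal.map_isPrime_of_surjective Ideal.Quotient.mk_surjective (by rw [Ideal.mk_ker]; exact hk0)
    have h1 : q₀.map π ≤ Q := Ideal.map_le_iff_le_comap.2 hle
    intro x hx
    exact (Ideal.mem_quotient_iff_mem hk0).1 (hQ.2 ⟨inferInstance, bot_le⟩ h1 (hx : π x ∈ Q))
  have he : ringKrullDim ((A ⧸ locKer A p) ⧸ Q) = ringKrullDim (A ⧸ q) := by
    refine (ringKrullDim_eq_of_ringEquiv ?_).symm
    refine (Ideal.quotEquivOfEq (?_ : q = RingHom.ker ((Ideal.Quotient.mk Q).comp π))).trans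
      (RingHom.quotientKerEquivOfSurjective (Ideal.Quotient.mk_surjective.comp Ideal.Quotient.mk_surjective))
    rw [← RingHom.comap_ker, Ideal.mk_ker]
  have hle : ringKrullDim (A ⧸ locKer A p) ≤ n := hdQ.trans (he.le.trans (hn₁ q hqm hqp))
  have hge : (n : WithBot ℕ∞) ≤ ringKrullDim (A ⧸ locKer A p) := by
    obtain ⟨q', hq', hq'p, hq'n⟩ := hn₂
    have hk' : locKer A p ≤ q' := fun x hx => mem_of_algebraMap_eq_zero hq'.1.1 hq'p (RingHom.mem_ker.1 hx)
    rw [← hq'n]
    exact ringKrullDim_le_of_surjective (Ideal.Quotient.factor hk') (Ideal.Quotient.factor_surjective hk')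
  refine ⟨le_antisymm hle hge, Q, hQ, hQp, le_antisymm ?_ (hge.trans hdQ)⟩
  exact he.le.trans (hn₁ q hqm hqp)

/-- Free differentials give an étale presentation of the union of the components through the prime. -/
theorem exists_etale_quotient (hp : p ≠ maximalIdeal A) {n : ℕ}
    (hn₁ : ∀ q ∈ minimalPrimes A, q ≤ p → ringKrullDim (A ⧸ q) ≤ n)
    (hn₂ : ∃ q ∈ minimalPrimes A, q ≤ p ∧ ringKrullDim (A ⧸ q) = n)
    (hfree : Module.Free (Localization.AtPrime p) (LocalizedModule p.primeCompl (Om k A)))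
    (hrank : Module.finrank (Localization.AtPrime p) (LocalizedModule p.primeCompl (Om k A)) = n) :
    haveI := isPrime_pBar A p
    ∃ (_ : Algebra (MvPowerSeries (Fin n) k) (A ⧸ locKer A p))
      (_ : IsScalarTower k (MvPowerSeries (Fin n) k) (A ⧸ locKer A p))
      (_ : IsLocalRing (A ⧸ locKer A p)),
      (∀ i, algebraMap (MvPowerSeries (Fin n) k) (A ⧸ locKer A p) (MvPowerSeries.X i) ∈ maximalIdeal (A ⧸ locKer A p)) ∧
      Module.Finite (MvPowerSeries (Fin n) k) (A ⧸ locKer A p) ∧
        Algebra.IsEtaleAt (MvPowerSeries (Fin n) k) (pBar A p) := by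
  haveI := isPrime_pBar A p
  haveI : Nontrivial (A ⧸ locKer A p) := Ideal.Quotient.nontrivial_iff.2 fun h =>
    (inferInstance : p.IsPrime).ne_top (top_le_iff.1 (h ▸ locKer_le A p))
  obtain ⟨hl, hc, hr⟩ := quotient_instances' k A (locKer A p)
  haveI := hl
  haveI := hc
  haveI := hr
  let B := A ⧸ locKer A p
  obtain ⟨hdim, Q, hQ, hQp, hQn⟩ := exists_component A p hn₁ hn₂
  haveI : IsLocalHom (Ideal.Quotient.mk (locKer A p)) := IsLocalHom.of_surjective _ Ideal.Quotient.mk_surjective
  have hpB : pBar A p ≠ maximalIdeal B := fun h => hp (by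
    rw [← comap_pBar A p, h]
    exact IsLocalRing.maximalIdeal_comap _)
  haveI := finite_kaehler_residueField k A
  haveI := finite_kaehler_residueField k B
  haveI := finite_om' k A
  haveI := finite_om' k B
  haveI : Module.Finite A B := inferInstance
  haveI : Module.Finite A (Om k B) := Module.Finite.trans B (Om k B)
  let F : Om k A →ₗ[A] Om k B := lift k A ((dhat k B).compAlgebraMap A)
  have hF : Function.Surjective F := by
    intro z
    have hz : z ∈ Submodule.span B (Set.range (dhat k B)) := by rw [span_dhat]; trivial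
    induction hz using Submodule.span_induction with
    | mem y hy =>
      obtain ⟨b, rfl⟩ := hy
      obtain ⟨a, rfl⟩ := Ideal.Quotient.mk_surjective b
      exact ⟨dhat k A a, lift_dhat k A _ a⟩
    | zero => exact ⟨0, map_zero _⟩
    | add y z _ _ hy hz => obtain ⟨a, rfl⟩ := hy; obtain ⟨b, rfl⟩ := hz; exact ⟨a + b, map_add _ _ _⟩
    | smul b y _ hy =>
      obtain ⟨a, rfl⟩ := Ideal.Quotient.mk_surjective b
      obtain ⟨w, rfl⟩ := hy
      exact ⟨a • w, by rw [map_smul]; exact (algebraMap_smul B a (F w)).symm⟩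
  haveI := hfree
  haveI : Module.Finite (Localization.AtPrime p) (LocalizedModule p.primeCompl (Om k A)) :=
    Module.Finite.of_isLocalizedModule p.primeCompl (LocalizedModule.mkLinearMap p.primeCompl (Om k A))
  let b := Module.finBasisOfFinrankEq (Localization.AtPrime p) _ hrank
  obtain ⟨ω, hω⟩ := exists_numerators p b b.span_eq
  have hω' : ∀ z : Om k B, ∃ t ∉ pBar A p, t • z ∈ Submodule.span B (Set.range fun i => F (ω i)) := by
    intro z
    obtain ⟨w, rfl⟩ := hF z
    obtain ⟨t, ht, hw⟩ := hω w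
    refine ⟨Ideal.Quotient.mk _ t, fun h => ht ((comap_pBar A p).le h), ?_⟩
    have h1 : F (t • w) ∈ (Submodule.span A (Set.range ω)).map F := Submodule.mem_map_of_mem hw
    rw [Submodule.map_span, ← Set.range_comp, map_smul] at h1
    have h2 := Submodule.span_le_restrictScalars A B _ h1
    rw [← algebraMap_smul B t] at h2
    exact h2
  have hspan := (span_localized_iff (pBar A p) fun i => F (ω i)).2 hω'
  obtain ⟨alg, tow, hloc, hfin, hunr⟩ :=
    (Groth.Agent.S5054.result k B (pBar A p) hpB ⟨Q, hQ, hQp, hQn.trans hdim.symm⟩ n).1 ⟨_, hspan⟩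
  letI := alg
  haveI := tow
  haveI := hloc
  haveI := hfin
  haveI := hunr
  exact ⟨alg, tow, hl, X_mem_of_isLocalHom k B, hfin,
    isEtaleAt_of_isUnramifiedAt k B (pBar A p) ⟨Q, hQ, hQp, hQn⟩⟩

/-- (b) implies (a). -/
theorem isRegularLocalRing_of_free (hp : p ≠ maximalIdeal A) {n : ℕ}
    (hn₁ : ∀ q ∈ minimalPrimes A, q ≤ p → ringKrullDim (A ⧸ q) ≤ n)
    (hn₂ : ∃ q ∈ minimalPrimes A, q ≤ p ∧ ringKrullDim (A ⧸ q) = n)
    (hfree : Module.Free (Localization.AtPrime p) (LocalizedModule p.primeCompl (Om k A)))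
    (hrank : Module.finrank (Localization.AtPrime p) (LocalizedModule p.primeCompl (Om k A)) = n)
    (k' : Type u) [Field k'] [Algebra k k'] (P : Ideal (CT k A k')) [P.IsPrime]
    (hP : P.comap (algebraMap A (CT k A k')) = p) : IsRegularLocalRing (Localization.AtPrime P) := by
  haveI := isPrime_pBar A p
  obtain ⟨alg, tow, hl, hX, hfin, het⟩ := exists_etale_quotient k A p hp hn₁ hn₂ hfree hrank
  letI := alg
  haveI := tow
  haveI := hl
  haveI := hfin
  haveI := het
  haveI : Nontrivial (A ⧸ locKer A p) := inferInstance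
  obtain ⟨_, hc, hr⟩ := quotient_instances' k A (locKer A p)
  haveI := hc
  haveI := hr
  obtain ⟨θ, hθ, hθA, -, hθker⟩ := exists_quotient_map k A (A ⧸ locKer A p) k'
    (Ideal.Quotient.mkₐ k (locKer A p)) (Ideal.Quotient.mkₐ_surjective k _)
  have hkill : ∀ x ∈ RingHom.ker θ, algebraMap (CT k A k') (Localization.AtPrime P) x = 0 := by
    intro x hx
    rw [hθker] at hx
    have hle : (RingHom.ker (Ideal.Quotient.mkₐ k (locKer A p))).map (algebraMap A (CT k A k')) ≤
        RingHom.ker (algebraMap (CT k A k') (Localization.AtPrime P)) := by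
      refine Ideal.map_le_iff_le_comap.2 fun a ha => ?_
      have ha' : algebraMap A (Localization.AtPrime p) a = 0 := RingHom.mem_ker.1 (Ideal.Quotient.eq_zero_iff_mem.1 ha)
      obtain ⟨⟨s, hs⟩, hsa⟩ := (IsLocalization.map_eq_zero_iff p.primeCompl _ a).1 ha'
      rw [Ideal.mem_comap, RingHom.mem_ker, IsLocalization.map_eq_zero_iff P.primeCompl]
      refine ⟨⟨algebraMap A (CT k A k') s, fun h => hs (hP.le h)⟩, ?_⟩
      show algebraMap A (CT k A k') s * algebraMap A (CT k A k') a = 0
      rw [← map_mul, show s * a = 0 from hsa, map_zero]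
    exact hle hx
  have hkle : RingHom.ker θ ≤ P := fun x hx => mem_of_algebraMap_eq_zero inferInstance le_rfl (hkill x hx)
  haveI : (P.map θ).IsPrime := Ideal.map_isPrime_of_surjective hθ hkle
  have hc' : (P.map θ).comap θ = P := by
    rw [Ideal.comap_map_of_surjective _ hθ, ← RingHom.ker_eq_comap_bot, sup_eq_left]
    exact hkle
  refine (isRegularLocalRing_of_surjective θ hθ P (P.map θ) hc' hkill).2 ?_
  refine isRegularLocalRing_of_isEtaleAt k (A ⧸ locKer A p) k' hX (pBar A p) (P.map θ) ?_
  refine Ideal.comap_injective_of_surjective (Ideal.Quotient.mk (locKer A p)) Ideal.Quotient.mk_surjective ?_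
  rw [comap_pBar]
  refine Eq.trans ?_ hP
  ext a
  show algebraMap (A ⧸ locKer A p) _ (Ideal.Quotient.mkₐ k _ a) ∈ P.map θ ↔ algebraMap A (CT k A k') a ∈ P
  rw [← hθA]
  exact SetLike.ext_iff.1 hc' (algebraMap A (CT k A k') a)

/-- (b) implies (d). -/
theorem isGeometricallyRegular_of_free (hp : p ≠ maximalIdeal A) {n : ℕ}
    (hn₁ : ∀ q ∈ minimalPrimes A, q ≤ p → ringKrullDim (A ⧸ q) ≤ n)
    (hn₂ : ∃ q ∈ minimalPrimes A, q ≤ p ∧ ringKrullDim (A ⧸ q) = n)
    (hfree : Module.Free (Localization.AtPrime p) (LocalizedModule p.primeCompl (Om k A)))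
    (hrank : Module.finrank (Localization.AtPrime p) (LocalizedModule p.primeCompl (Om k A)) = n) :
    CAlg.IsGeometricallyRegular k (Localization.AtPrime p) := by
  haveI := isPrime_pBar A p
  obtain ⟨alg, tow, hl, hX, hfin, het⟩ := exists_etale_quotient k A p hp hn₁ hn₂ hfree hrank
  letI := alg
  haveI := tow
  haveI := hl
  haveI := hfin
  haveI := het
  have hB := isGeometricallyRegular_of_isEtaleAt k (n := n) (A ⧸ locKer A p) (pBar A p)
  let π := Ideal.Quotient.mk (locKer A p)
  let φ : Localization.AtPrime p →ₐ[k] Localization.AtPrime (pBar A p) :=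
    { Localization.localRingHom p (pBar A p) π (comap_pBar A p).symm with
      commutes' := fun c => by
        show Localization.localRingHom p (pBar A p) π _ (algebraMap k (Localization.AtPrime p) c) = _
        rw [IsScalarTower.algebraMap_apply k A (Localization.AtPrime p),
          IsScalarTower.algebraMap_apply k (A ⧸ locKer A p) (Localization.AtPrime (pBar A p))]
        exact Localization.localRingHom_to_map _ _ _ (comap_pBar A p).symm _ }
  have hφ : Function.Bijective φ := by
    refine ⟨(injective_iff_map_eq_zero _).2 fun z hz => ?_, fun z => ?_⟩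
    · obtain ⟨x, s, rfl⟩ := IsLocalization.exists_mk'_eq p.primeCompl z
      change Localization.localRingHom p (pBar A p) π (comap_pBar A p).symm _ = 0 at hz
      rw [Localization.localRingHom_mk', IsLocalization.mk'_eq_zero_iff] at hz
      obtain ⟨⟨t, ht⟩, htx⟩ := hz
      obtain ⟨t, rfl⟩ := Ideal.Quotient.mk_surjective t
      have h1 : algebraMap A (Localization.AtPrime p) (t * x) = 0 :=
        RingHom.mem_ker.1 (Ideal.Quotient.eq_zero_iff_mem.1 ((map_mul (Ideal.Quotient.mk (locKer A p)) t x).trans htx))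
      rw [map_mul] at h1
      rw [IsLocalization.mk'_eq_mul_mk'_one, ((IsLocalization.map_units (Localization.AtPrime p)
        (⟨t, fun h => ht (Ideal.mem_map_of_mem _ h)⟩ : p.primeCompl)).mul_right_eq_zero.1 h1), zero_mul]
    · obtain ⟨y, ⟨t, ht⟩, rfl⟩ := IsLocalization.exists_mk'_eq (pBar A p).primeCompl z
      obtain ⟨x, rfl⟩ := Ideal.Quotient.mk_surjective y
      obtain ⟨s, rfl⟩ := Ideal.Quotient.mk_surjective t
      refine ⟨IsLocalization.mk' _ x (⟨s, fun h => ht (Ideal.mem_map_of_mem _ h)⟩ : p.primeCompl), ?_⟩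
      show Localization.localRingHom p (pBar A p) π (comap_pBar A p).symm _ = _
      rw [Localization.localRingHom_mk']
  intro L _ _ hL
  haveI := hB L hL
  exact IsRegularRing.of_ringEquiv (R := L ⊗[k] Localization.AtPrime (pBar A p))
    (Algebra.TensorProduct.congr AlgEquiv.refl (AlgEquiv.ofBijective φ hφ).symm : _ ≃ₐ[k] _).toRingEquiv

/-- Over a perfect field regular algebras are geometrically regular. -/
theorem isGeometricallyRegular_of_perfect (K R : Type u) [Field K] [PerfectField K] [CommRing R] [Algebra K R]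
    [IsRegularRing R] : CAlg.IsGeometricallyRegular K R := by
  intro L _ _ hL
  haveI := hL
  haveI : Algebra.FormallyEtale K L := Algebra.FormallyEtale.of_isSeparable K L
  haveI : Algebra.Etale K L := ⟨inferInstance, Algebra.FinitePresentation.of_finiteType.mp inferInstance⟩
  haveI : Algebra.Etale R (R ⊗[K] L) := inferInstance
  haveI := GrothLib.GeomReg.isRegularRing_of_smooth R (R ⊗[K] L)
  exact GrothLib.GeomReg.isRegularRing_comm.2 inferInstance

/-- The completed tensor product of a domain with a field has at most its dimension. -/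
theorem ringKrullDim_CT_le [IsDomain A] (k' : Type u) [Field k'] [Algebra k k'] {n : ℕ} (hn : ringKrullDim A = n) :
    ringKrullDim (CT k A k') ≤ n := by
  obtain ⟨alg, tow, hfin, hinj⟩ := exists_presentation k A hn
  letI := alg
  haveI := tow
  haveI := hfin
  haveI : IsLocalHom (algebraMap (MvPowerSeries (Fin n) k) A) :=
    RingHom.IsIntegral.isLocalHom (Algebra.IsIntegral.of_finite (MvPowerSeries (Fin n) k) A).isIntegral hinj
  obtain ⟨e, -, -⟩ := exists_equiv k A k' (X_mem_of_isLocalHom k A (m := n))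
  haveI : Module.Finite (MvPowerSeries (Fin n) k') (BC k A k' (d := n)) :=
    Module.Finite.base_change (MvPowerSeries (Fin n) k) (MvPowerSeries (Fin n) k') A
  haveI : Algebra.IsIntegral (MvPowerSeries (Fin n) k') (BC k A k' (d := n)) := Algebra.IsIntegral.of_finite _ _
  rw [← ringKrullDim_eq_of_ringEquiv e]
  exact (GrothLib.Dim.ringKrullDim_le_of_isIntegral _ _).trans (ringKrullDim_powerSeries k' n).le

/-- (a') implies (b). -/
theorem free_of_isRegularLocalRing {n : ℕ}
    (hn₂ : ∃ q ∈ minimalPrimes A, q ≤ p ∧ ringKrullDim (A ⧸ q) = n)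
    (k' : Type u) [Field k'] [Algebra k k'] [PerfectField k'] (P : Ideal (CT k A k')) [P.IsPrime]
    (hP : P.comap (algebraMap A (CT k A k')) = p) [IsRegularLocalRing (Localization.AtPrime P)] :
    Module.Free (Localization.AtPrime p) (LocalizedModule p.primeCompl (Om k A)) ∧
      Module.finrank (Localization.AtPrime p) (LocalizedModule p.primeCompl (Om k A)) = n := by
  classical
  -- the local ring is regular by descent
  haveI : Module.Flat A (CT k A k') := flat k A k'
  let f := Localization.localRingHom p P (algebraMap A (CT k A k')) hP.symm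
  have hf : f.Flat := RingHom.Flat.localRingHom (RingHom.flat_algebraMap_iff.2 inferInstance) P p hP.symm
  letI := f.toAlgebra
  haveI : Module.Flat (Localization.AtPrime p) (Localization.AtPrime P) := hf
  haveI : IsLocalHom (algebraMap (Localization.AtPrime p) (Localization.AtPrime P)) := inferInstanceAs (IsLocalHom f)
  haveI : IsNoetherianRing (Localization.AtPrime p) := IsLocalization.isNoetherianRing p.primeCompl _ inferInstance
  haveI : IsRegularLocalRing (Localization.AtPrime p) :=
    GrothLib.Serre.isRegularLocalRing_of_flat (Localization.AtPrime p) (Localization.AtPrime P)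
  haveI : IsDomain (Localization.AtPrime p) := GrothLib.CMFree.isDomain_of_isRegularLocalRing _
  obtain ⟨q, hq, hqp, hqn⟩ := hn₂
  haveI : q.IsPrime := hq.1.1
  refine free_of_fibre_le k A p q hq hqp hqn ?_
  -- pass to a complete local ring of the base change
  obtain ⟨M, hM, hPM⟩ := Ideal.exists_le_maximal P (inferInstance : P.IsPrime).ne_top
  haveI := hM
  letI algk' : Algebra k' (CT k A k') := (kMap k A k').toAlgebra
  let A₁ := Localization.AtPrime M
  obtain ⟨hnoeth, hcomp, hsurj⟩ := (localizations k A k').2 ⟨M, hM⟩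
  haveI : IsNoetherianRing A₁ := hnoeth
  haveI : IsAdicComplete (maximalIdeal A₁) A₁ := hcomp
  have hk : ∀ c, algebraMap k' A₁ c = algebraMap (CT k A k') A₁ (kMap k A k' c) := fun c =>
    IsScalarTower.algebraMap_apply k' (CT k A k') A₁ c
  haveI : Module.Finite k' (ResidueField A₁) := finite_residueField k A k' M hk
  obtain ⟨L, hL⟩ := exists_surjective_om k A k' M hk
  let ι := algebraMap (CT k A k') A₁
  have hkill : ∀ x ∈ RingHom.ker ι, algebraMap (CT k A k') (Localization.AtPrime P) x = 0 := by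
    intro x hx
    obtain ⟨⟨s, hs⟩, hsx⟩ := (IsLocalization.map_eq_zero_iff M.primeCompl A₁ x).1 (RingHom.mem_ker.1 hx)
    exact (IsLocalization.map_eq_zero_iff P.primeCompl _ x).2 ⟨⟨s, fun h => hs (hPM h)⟩, hsx⟩
  have hkle : RingHom.ker ι ≤ P := fun x hx => mem_of_algebraMap_eq_zero inferInstance le_rfl (hkill x hx)
  let P₁ := P.map ι
  haveI : P₁.IsPrime := Ideal.map_isPrime_of_surjective hsurj hkle
  have hc : P₁.comap ι = P := by
    rw [Ideal.comap_map_of_surjective _ hsurj, ← RingHom.ker_eq_comap_bot, sup_eq_left]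
    exact hkle
  haveI hreg : IsRegularLocalRing (Localization.AtPrime P₁) :=
    (isRegularLocalRing_of_surjective ι hsurj P P₁ hc hkill).1 inferInstance
  haveI : IsDomain (Localization.AtPrime P₁) := GrothLib.CMFree.isDomain_of_isRegularLocalRing _
  obtain ⟨q₁, hq₁, hq₁P⟩ := Ideal.exists_minimalPrimes_le (I := (⊥ : Ideal A₁)) (J := P₁) bot_le
  haveI := hq₁.1.1
  -- the component upstairs is no larger
  haveI : p.LiesOver p := ⟨rfl⟩
  haveI hP₁p : P₁.LiesOver p := ⟨by
    rw [Ideal.under, IsScalarTower.algebraMap_eq A (CT k A k') A₁, ← Ideal.comap_comap]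
    exact hP.symm.trans (congrArg _ hc.symm)⟩
  obtain ⟨hCloc, hCcomp, hCres⟩ := quotient_instances k A q
  haveI := hCloc
  haveI := hCcomp
  haveI := hCres
  obtain ⟨θ, hθ, hθA, -, hθker⟩ := exists_quotient_map k A (A ⧸ q) k' (Ideal.Quotient.mkₐ k q)
    (Ideal.Quotient.mkₐ_surjective k _)
  let g : CT k A k' →+* A₁ ⧸ q₁ := (Ideal.Quotient.mk q₁).comp ι
  have hker : RingHom.ker θ ≤ RingHom.ker g := by
    rw [hθker]
    refine Ideal.map_le_iff_le_comap.2 fun a ha => ?_
    have ha0 := algebraMap_eq_zero_of_mem p q hq hqp (Ideal.Quotient.eq_zero_iff_mem.1 ha)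
    obtain ⟨⟨s, hs⟩, hsa⟩ := (IsLocalization.map_eq_zero_iff p.primeCompl _ a).1 ha0
    rw [Ideal.mem_comap, RingHom.mem_ker]
    show Ideal.Quotient.mk q₁ (ι (algebraMap A (CT k A k') a)) = 0
    rw [Ideal.Quotient.eq_zero_iff_mem]
    refine (hq₁.1.1.mem_or_mem (?_ : ι (algebraMap A _ s) * _ ∈ q₁)).resolve_left fun h => hs ?_
    · rw [← map_mul, ← map_mul, show s * a = 0 from hsa, map_zero, map_zero]
      exact q₁.zero_mem
    · exact hP.le (hc.le (hq₁P h))
  let g' := RingHom.liftOfSurjective θ hθ ⟨g, hker⟩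
  have hg' : Function.Surjective g' := fun y => by
    obtain ⟨x, rfl⟩ := (Ideal.Quotient.mk_surjective.comp hsurj) y
    exact ⟨θ x, RingHom.liftOfRightInverse_comp_apply θ _ _ ⟨g, hker⟩ x⟩
  have hdimq : ringKrullDim (A₁ ⧸ q₁) ≤ n :=
    (ringKrullDim_le_of_surjective g' hg').trans (ringKrullDim_CT_le k (A ⧸ q) k' hqn)
  obtain ⟨hC₁, -, -⟩ := quotient_instances k' A₁ P₁
  haveI := hC₁
  obtain ⟨d, hd⟩ := exists_dim (A₁ ⧸ P₁)
  obtain ⟨h, hh⟩ := exists_dim (Localization.AtPrime P₁)
  have hle : h + d ≤ n := by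
    have h1 := (dim_add_dim_le A₁ P₁ q₁ fun x hx => algebraMap_eq_zero_of_mem P₁ q₁ hq₁ hq₁P hx).trans hdimq
    rw [hd, hh] at h1
    exact_mod_cast h1
  -- the fibre upstairs
  haveI := finite_kaehler_residueField k' A₁
  haveI := finite_om' k' A₁
  have hfib : Module.finrank P₁.ResidueField (P₁.ResidueField ⊗[A₁] Om k' A₁) ≤ h + d := by
    obtain ⟨pp, hexp⟩ := ExpChar.exists k'
    haveI : IsNoetherianRing (Localization.AtPrime P₁) := inferInstance
    haveI : IsRegularRing (Localization.AtPrime P₁) := GrothLib.Serre.isRegularRing_of_isRegularLocalRing _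
    rcases hexp with _ | ⟨hpp⟩
    · exact fibre_le_charZero k' A₁ P₁ hh hd
    · haveI := Fact.mk hpp
      haveI : PerfectRing k' pp := PerfectField.toPerfectRing pp
      refine fibre_le_charP k' A₁ pp ?_ P₁ (isGeometricallyRegular_of_perfect k' _) hh hd
      exact RingHom.Finite.of_surjective _ (PerfectRing.bijective_frobenius (R := k') (p := pp)).2
  haveI := finite_kaehler_residueField k A
  haveI := finite_om' k A
  let T := P₁.ResidueField ⊗[A₁] (A₁ ⊗[A] Om k A)
  have hsur : Function.Surjective (L.baseChange P₁.ResidueField) := LinearMap.lTensor_surjective _ hL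
  have h2 : Module.finrank P₁.ResidueField (P₁.ResidueField ⊗[A₁] (A₁ ⊗[A] Om k A)) ≤ n :=
    ((L.baseChange P₁.ResidueField).finrank_le_finrank_of_surjective hsur).trans (hfib.trans hle)
  letI : Algebra p.ResidueField P₁.ResidueField := Ideal.ResidueField.map p P₁ (algebraMap A A₁) hP₁p.over |>.toAlgebra
  haveI : IsScalarTower A p.ResidueField P₁.ResidueField := IsScalarTower.of_algebraMap_eq fun x =>
    by
    rw [IsScalarTower.algebraMap_apply A A₁ P₁.ResidueField]
    exact (Ideal.ResidueField.map_algebraMap p P₁ (algebraMap A A₁) hP₁p.over x).symm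
  have e1 := (TensorProduct.AlgebraTensorModule.cancelBaseChange A A₁ P₁.ResidueField P₁.ResidueField (Om k A)).finrank_eq
  have e2 := (TensorProduct.AlgebraTensorModule.cancelBaseChange A p.ResidueField P₁.ResidueField P₁.ResidueField
    (Om k A)).finrank_eq
  rw [e1, ← e2, Module.finrank_baseChange] at h2
  exact h2

/-- There is a prime over each prime. -/
theorem exists_prime_over (k' : Type u) [Field k'] [Algebra k k'] :
    ∃ P : Ideal (CT k A k'), P.IsPrime ∧ P.comap (algebraMap A (CT k A k')) = p := by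
  haveI := flat k A k'
  obtain ⟨d, alg, tow, hfin, hgen⟩ := exists_param k A
  letI := alg
  haveI := tow
  haveI := hfin
  obtain ⟨e, -, -⟩ := exists_equiv k A k' fun i => hgen.le (Ideal.subset_span ⟨i, rfl⟩)
  haveI : Nontrivial (CT k A k') := by
    haveI : Nontrivial (A ⊗[k] k') := inferInstance
    have hI : mI k A k' ≠ ⊤ := by
      intro h
      have h1 := Ideal.map_comap_le (f := algebraMap A (A ⊗[k] k')) (K := mI k A k')
      haveI : Module.FaithfullyFlat A (A ⊗[k] k') := inferInstance
      exact (IsLocalRing.maximalIdeal.isMaximal A).ne_top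
        ((Ideal.comap_map_eq_self_of_faithfullyFlat (maximalIdeal A)).symm.trans (by rw [show
          (maximalIdeal A).map (algebraMap A (A ⊗[k] k')) = ⊤ from h, Ideal.comap_top]))
    haveI : Nontrivial ((A ⊗[k] k') ⧸ mI k A k') := Ideal.Quotient.nontrivial_iff.2 hI
    refine (RingHom.domain_nontrivial ((Ideal.Quotient.factor (pow_one (mI k A k')).le).comp
      (AdicCompletion.evalₐ (mI k A k') 1).toRingHom) : _)
  obtain ⟨M, hM⟩ := Ideal.exists_maximal (CT k A k')
  haveI := hM
  haveI := faithfullyFlat_localization k A k' M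
  obtain ⟨⟨Q, hQ⟩, hQp⟩ := PrimeSpectrum.comap_surjective_of_faithfullyFlat (A := A)
    (B := Localization.AtPrime M) ⟨p, inferInstance⟩
  haveI := hQ
  refine ⟨Q.comap (algebraMap (CT k A k') (Localization.AtPrime M)), inferInstance, ?_⟩
  rw [Ideal.comap_comap, ← IsScalarTower.algebraMap_eq]
  exact congrArg PrimeSpectrum.asIdeal hQp

end GrothLib.CTensor
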