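import Groth.Agent.Lib.CTensor.Basic
import Mathlib.RingTheory.Ideal.GoingDown
import Mathlib.RingTheory.Flat.FaithfullyFlat.Algebra

/-!
# Local rings of the completed tensor product
-/

universe u

open IsLocalRing
open scoped TensorProduct

set_option linter.style.haveILetI false
set_option linter.unusedSectionVars false

noncomputable section

namespace GrothLib.CTensor

variable (k A k' : Type u) [Field k] [CommRing A] [IsNoetherianRing A] [IsLocalRing A] [Algebra k A]
  [Module.Finite k (ResidueField A)] [IsAdicComplete (maximalIdeal A) A] [Field k'] [Algebra k k']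

/-- Decomposition into complete local rings. -/
theorem localizations :
    Finite (MaximalSpectrum (CT k A k')) ∧
      ∀ M : MaximalSpectrum (CT k A k'), IsNoetherianRing (Localization.AtPrime M.asIdeal) ∧
        IsAdicComplete (maximalIdeal (Localization.AtPrime M.asIdeal)) (Localization.AtPrime M.asIdeal) ∧
        Function.Surjective (algebraMap (CT k A k') (Localization.AtPrime M.asIdeal)) := by
  classical
  obtain ⟨d, alg, tow, hfin, hgen⟩ := exists_param k A
  letI := alg
  haveI := tow
  haveI := hfin
  obtain ⟨e, -, -⟩ := exists_equiv k A k' fun i => hgen.le (Ideal.subset_span ⟨i, rfl⟩)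
  let P' := MvPowerSeries (Fin d) k'
  haveI : IsAdicComplete (maximalIdeal P') P' := inferInstance
  letI : Algebra P' (CT k A k') :=
    (e.toRingHom.comp (algebraMap P' (BC k A k' (d := d)))).toAlgebra
  haveI : Module.Finite P' (BC k A k' (d := d)) := Module.Finite.base_change (MvPowerSeries (Fin d) k) P' A
  haveI : Module.Finite P' (CT k A k') :=
    Module.Finite.equiv ({ e with commutes' := fun f => rfl } : BC k A k' (d := d) ≃ₐ[P'] CT k A k').toLinearEquiv
  obtain ⟨h1, h2, h3⟩ := GrothLib.AdicExtra.finite_algebra_pi_localizations P' (CT k A k')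
  refine ⟨h1, fun M => ⟨(h3 M).1, (h3 M).2, fun y => ?_⟩⟩
  obtain ⟨x, hx⟩ := h2.2 (Pi.single M y)
  exact ⟨x, by simpa using congrFun hx M⟩

/-- Maximal ideals lie over the maximal ideal. -/
theorem map_maximalIdeal_le (M : Ideal (CT k A k')) [M.IsMaximal] :
    (maximalIdeal A).map (algebraMap A (CT k A k')) ≤ M := by
  haveI := isAdicComplete k A k'
  refine (IsAdicComplete.le_jacobson_bot _).trans ?_
  exact sInf_le ⟨bot_le, inferInstance⟩

theorem isLocalHom (M : Ideal (CT k A k')) [M.IsMaximal] :
    IsLocalHom (algebraMap A (Localization.AtPrime M)) :=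
  ((local_hom_TFAE _).out 0 2 rfl rfl).2 (by
    rw [IsScalarTower.algebraMap_eq A (CT k A k') (Localization.AtPrime M), ← Ideal.map_map,
      ← Localization.AtPrime.map_eq_maximalIdeal]
    exact Ideal.map_mono (map_maximalIdeal_le k A k' M))

theorem flat_localization (M : Ideal (CT k A k')) [M.IsPrime] : Module.Flat A (Localization.AtPrime M) := by
  haveI := flat k A k'
  haveI : Module.Flat (CT k A k') (Localization.AtPrime M) := IsLocalization.flat _ M.primeCompl
  exact Module.Flat.trans A (CT k A k') _

theorem faithfullyFlat_localization (M : Ideal (CT k A k')) [M.IsMaximal] :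
    Module.FaithfullyFlat A (Localization.AtPrime M) := by
  haveI := flat_localization k A k' M
  haveI := isLocalHom k A k' M
  exact Module.FaithfullyFlat.of_flat_of_isLocalHom

/-- The residue field of a maximal ideal is finite over `k'`. -/
theorem finite_quotient (M : Ideal (CT k A k')) [M.IsMaximal] :
    ((Ideal.Quotient.mk M).comp (kMap k A k')).Finite := by
  let φ : k' →+* (A ⊗[k] k') ⧸ mI k A k' := (Ideal.Quotient.mk (mI k A k')).comp
    (Algebra.TensorProduct.includeRight : k' →ₐ[k] A ⊗[k] k').toRingHom
  let ψ : (A ⊗[k] k') ⧸ mI k A k' →+* CT k A k' ⧸ M :=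
    Ideal.quotientMap M (algebraMap (A ⊗[k] k') (CT k A k'))
      (Ideal.map_le_iff_le_comap.1 ((map_mI k A k').le.trans (map_maximalIdeal_le k A k' M)))
  have hψ : Function.Surjective ψ := fun y => by
    obtain ⟨x, rfl⟩ := Ideal.Quotient.mk_surjective y
    obtain ⟨b, hb⟩ := exists_sub_mem_pow (mI k A k') (mI_fg k A k') x 1
    refine ⟨Ideal.Quotient.mk _ b, ?_⟩
    rw [Ideal.quotientMap_mk, eq_comm, Ideal.Quotient.eq]
    rw [pow_one] at hb
    exact (map_mI k A k').le.trans (map_maximalIdeal_le k A k' M) hb
  exact (RingHom.Finite.of_surjective ψ hψ).comp (quotient_finite k A k')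

/-- The completed tensor product has the same dimension. -/
theorem ringKrullDim_localization (M : Ideal (CT k A k')) [M.IsMaximal] :
    ringKrullDim (Localization.AtPrime M) = ringKrullDim A := by
  haveI := isNoetherianRing k A k'
  haveI := flat_localization k A k' M
  haveI := isLocalHom k A k' M
  let R := Localization.AtPrime M
  haveI : IsNoetherianRing R := IsLocalization.isNoetherianRing M.primeCompl _ inferInstance
  haveI hover : (maximalIdeal R).LiesOver (maximalIdeal A) :=
    ⟨(IsLocalRing.maximalIdeal_comap (algebraMap A R)).symm⟩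
  have h := Ideal.height_eq_height_add_of_liesOver_of_hasGoingDown (maximalIdeal A) (maximalIdeal R)
  rw [← IsLocalRing.maximalIdeal_height_eq_ringKrullDim, ← IsLocalRing.maximalIdeal_height_eq_ringKrullDim, h]
  -- the fibre is Artinian
  let J := (maximalIdeal A).map (algebraMap A (CT k A k'))
  haveI : IsArtinianRing (CT k A k' ⧸ J) := by
    let φ : k' →+* (A ⊗[k] k') ⧸ mI k A k' := (Ideal.Quotient.mk (mI k A k')).comp
      (Algebra.TensorProduct.includeRight : k' →ₐ[k] A ⊗[k] k').toRingHom
    letI := φ.toAlgebra
    haveI : Module.Finite k' ((A ⊗[k] k') ⧸ mI k A k') := RingHom.finite_algebraMap.1 (quotient_finite k A k')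
    haveI : IsArtinianRing ((A ⊗[k] k') ⧸ mI k A k') := IsArtinianRing.of_finite k' _
    refine Function.Surjective.isArtinianRing
      (f := Ideal.quotientMap J (algebraMap (A ⊗[k] k') (CT k A k')) (Ideal.map_le_iff_le_comap.1 (map_mI k A k').le))
      fun y => ?_
    obtain ⟨x, rfl⟩ := Ideal.Quotient.mk_surjective y
    obtain ⟨b, hb⟩ := exists_sub_mem_pow (mI k A k') (mI_fg k A k') x 1
    refine ⟨Ideal.Quotient.mk _ b, ?_⟩
    rw [Ideal.quotientMap_mk, eq_comm, Ideal.Quotient.eq]
    rw [pow_one, map_mI] at hb
    exact hb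
  obtain ⟨-, hloc⟩ := localizations k A k'
  have hsurj := (hloc ⟨M, inferInstance⟩).2.2
  have hle : J ≤ ((maximalIdeal A).map (algebraMap A R)).comap (algebraMap (CT k A k') R) := by
    refine Ideal.map_le_iff_le_comap.1 (le_of_eq ?_)
    rw [Ideal.map_map, ← IsScalarTower.algebraMap_eq]
  haveI : IsArtinianRing (R ⧸ (maximalIdeal A).map (algebraMap A R)) :=
    Function.Surjective.isArtinianRing
      (f := Ideal.quotientMap ((maximalIdeal A).map (algebraMap A R)) (algebraMap (CT k A k') R) hle)
      (Ideal.quotientMap_surjective hsurj)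
  set N := (maximalIdeal R).map (Ideal.Quotient.mk ((maximalIdeal A).map (algebraMap A R))) with hN
  have h0 : N.height = 0 := by
    haveI : N.IsPrime := Ideal.map_isPrime_of_surjective Ideal.Quotient.mk_surjective (by
      rw [Ideal.mk_ker]; exact ((local_hom_TFAE _).out 0 2 rfl rfl).1 (isLocalHom k A k' M))
    haveI : Ring.KrullDimLE 0 (R ⧸ (maximalIdeal A).map (algebraMap A R)) := inferInstance
    exact Ideal.height_eq_zero_iff.2 (Ideal.mem_minimalPrimes_of_krullDimLE_zero N)
  rw [h0, add_zero]

end GrothLib.CTensor
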