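import Groth.Agent.Lib.CTensor.Props

/-!
# Quotients of the completed tensor product
-/

universe u

open IsLocalRing
open scoped TensorProduct

set_option linter.style.haveILetI false
set_option linter.unusedSectionVars false

noncomputable section

namespace GrothLib.CTensor

variable (k A A₂ k' : Type u) [Field k] [CommRing A] [IsLocalRing A] [IsNoetherianRing A] [Algebra k A]
  [IsAdicComplete (maximalIdeal A) A] [Module.Finite k (ResidueField A)]
  [CommRing A₂] [IsLocalRing A₂] [IsNoetherianRing A₂] [Algebra k A₂]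
  [IsAdicComplete (maximalIdeal A₂) A₂] [Module.Finite k (ResidueField A₂)]
  [Field k'] [Algebra k k']

/-- A surjection of complete algebras induces one of the completed tensor products, with the extended
ideal as kernel. -/
theorem exists_quotient_map (π : A →ₐ[k] A₂) (hπ : Function.Surjective π) :
    ∃ θ : CT k A k' →+* CT k A₂ k', Function.Surjective θ ∧
      (∀ a : A, θ (algebraMap A (CT k A k') a) = algebraMap A₂ (CT k A₂ k') (π a)) ∧
      (∀ c : k', θ (kMap k A k' c) = kMap k A₂ k' c) ∧
      RingHom.ker θ = (RingHom.ker π).map (algebraMap A (CT k A k')) := by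
  obtain ⟨d, alg, tow, hfin, hgen⟩ := exists_param k A
  letI := alg
  haveI := tow
  haveI := hfin
  let P := MvPowerSeries (Fin d) k
  let P' := MvPowerSeries (Fin d) k'
  letI alg₂ : Algebra P A₂ := (π.toRingHom.comp (algebraMap P A)).toAlgebra
  haveI tow₂ : IsScalarTower k P A₂ := IsScalarTower.of_algebraMap_eq fun c => by
    show algebraMap k A₂ c = π (algebraMap P A (algebraMap k P c))
    rw [← IsScalarTower.algebraMap_apply k P A, AlgHom.commutes]
  let πP : A →ₐ[P] A₂ := { π.toRingHom with commutes' := fun f => rfl }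
  haveI : Module.Finite P A₂ := Module.Finite.of_surjective πP.toLinearMap hπ
  have hloc : IsLocalHom π.toRingHom := IsLocalHom.of_surjective _ hπ
  obtain ⟨e, he, hek⟩ := exists_equiv k A k' fun i => hgen.le (Ideal.subset_span ⟨i, rfl⟩)
  obtain ⟨e₂, he₂, hek₂⟩ := exists_equiv k A₂ k' (d := d) fun i =>
    map_nonunit π.toRingHom _ (hgen.le (Ideal.subset_span ⟨i, rfl⟩))
  let m : BC k A k' (d := d) →ₐ[P] BC k A₂ k' (d := d) := Algebra.TensorProduct.map (AlgHom.id P P') πP
  have hm : Function.Surjective m := by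
    intro z
    induction z using TensorProduct.induction_on with
    | zero => exact ⟨0, map_zero _⟩
    | add a b ha hb => obtain ⟨x, rfl⟩ := ha; obtain ⟨y, rfl⟩ := hb; exact ⟨x + y, map_add _ _ _⟩
    | tmul f a => obtain ⟨b, rfl⟩ := hπ a; exact ⟨f ⊗ₜ b, rfl⟩
  let θ : CT k A k' →+* CT k A₂ k' := e₂.toRingHom.comp (m.toRingHom.comp e.symm.toRingHom)
  have hθA : ∀ a : A, θ (algebraMap A (CT k A k') a) = algebraMap A₂ (CT k A₂ k') (π a) := fun a => by
    rw [← he a]
    show e₂ (m (e.symm (e (1 ⊗ₜ a)))) = _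
    rw [e.symm_apply_apply, ← he₂ (π a)]
    rfl
  refine ⟨θ, e₂.surjective.comp (hm.comp e.symm.surjective), hθA, fun c => ?_, ?_⟩
  · rw [← hek c]
    show e₂ (m (e.symm (e (MvPowerSeries.C c ⊗ₜ 1)))) = _
    rw [e.symm_apply_apply, ← hek₂ c]
    show e₂ (MvPowerSeries.C c ⊗ₜ πP 1) = _
    rw [map_one]
  · apply le_antisymm
    · intro x hx
      have h1 : e.symm x ∈ RingHom.ker m := e₂.injective (hx.trans (map_zero e₂).symm)
      rw [Algebra.TensorProduct.lTensor_ker πP hπ] at h1
      have h2 := Ideal.mem_map_of_mem e.toRingHom h1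
      rw [RingEquiv.toRingHom_eq_coe, RingHom.coe_coe, e.apply_symm_apply] at h2
      suffices h : Ideal.map e.toRingHom (Ideal.map (Algebra.TensorProduct.includeRight : A →ₐ[P] BC k A k' (d := d))
          (RingHom.ker πP)) ≤ (RingHom.ker π).map (algebraMap A (CT k A k')) from h h2
      refine Ideal.map_le_iff_le_comap.2 (Ideal.map_le_iff_le_comap.2 fun a ha => ?_)
      show e (1 ⊗ₜ a) ∈ (RingHom.ker π).map (algebraMap A (CT k A k'))
      rw [he]
      exact Ideal.mem_map_of_mem _ ha
    · refine Ideal.map_le_iff_le_comap.2 fun a ha => ?_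
      show θ (algebraMap A (CT k A k') a) = 0
      rw [hθA, RingHom.mem_ker.1 ha, map_zero]

end GrothLib.CTensor
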