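import Groth.Agent.Lib.CTensor.Quot
import Groth.Agent.Lib.CKaehler2.EtaleFree
import Groth.Agent.Lib.GeomReg.Basic

/-!
# Regularity of the completed tensor product over étale points
-/

universe u

open IsLocalRing
open scoped TensorProduct

set_option linter.style.haveILetI false
set_option linter.unusedSectionVars false

noncomputable section

namespace GrothLib.CTensor

/-- Regularity at a prime is invariant under ring equivalences. -/
theorem isRegularLocalRing_of_equiv {R S : Type u} [CommRing R] [CommRing S] (e : R ≃+* S) (Q : Ideal S) [Q.IsPrime]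
    [IsRegularLocalRing (Localization.AtPrime (Q.comap e.toRingHom))] :
    IsRegularLocalRing (Localization.AtPrime Q) := by
  have H : (Q.comap e.toRingHom).primeCompl.map e.toMonoidHom = Q.primeCompl := by
    ext x
    constructor
    · rintro ⟨y, hy, rfl⟩
      exact hy
    · intro hx
      exact ⟨e.symm x, fun h => hx (by simpa [Ideal.mem_comap] using h), e.apply_symm_apply x⟩
  exact IsRegularLocalRing.of_ringEquiv (R := Localization.AtPrime (Q.comap e.toRingHom))
    (IsLocalization.ringEquivOfRingEquiv (Localization.AtPrime (Q.comap e.toRingHom)) (Localization.AtPrime Q) e H)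

/-- Regularity at a prime passes to a quotient by an ideal which dies there. -/
theorem isRegularLocalRing_of_surjective {R S : Type u} [CommRing R] [CommRing S] (θ : R →+* S)
    (hθ : Function.Surjective θ) (p : Ideal R) [p.IsPrime] (q : Ideal S) [q.IsPrime] (hpq : q.comap θ = p)
    (hker : ∀ x ∈ RingHom.ker θ, algebraMap R (Localization.AtPrime p) x = 0) :
    IsRegularLocalRing (Localization.AtPrime p) ↔ IsRegularLocalRing (Localization.AtPrime q) := by
  subst hpq
  have hb : Function.Bijective (Localization.localRingHom (q.comap θ) q θ rfl) := by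
    refine ⟨(injective_iff_map_eq_zero _).2 fun z hz => ?_, fun z => ?_⟩
    · obtain ⟨x, s, rfl⟩ := IsLocalization.exists_mk'_eq (q.comap θ).primeCompl z
      rw [Localization.localRingHom_mk', IsLocalization.mk'_eq_zero_iff] at hz
      obtain ⟨⟨t, ht⟩, htx⟩ := hz
      obtain ⟨t, rfl⟩ := hθ t
      have h1 := hker (t * x) (by rw [RingHom.mem_ker, map_mul]; exact htx)
      rw [IsLocalization.map_eq_zero_iff (q.comap θ).primeCompl] at h1
      obtain ⟨w, hw⟩ := h1
      rw [IsLocalization.mk'_eq_zero_iff]
      refine ⟨w * ⟨t, ht⟩, ?_⟩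
      rw [Submonoid.coe_mul, mul_assoc]
      exact hw
    · obtain ⟨y, ⟨t, ht⟩, rfl⟩ := IsLocalization.exists_mk'_eq q.primeCompl z
      obtain ⟨x, rfl⟩ := hθ y
      obtain ⟨s, rfl⟩ := hθ t
      exact ⟨IsLocalization.mk' _ x (⟨s, ht⟩ : (q.comap θ).primeCompl), by rw [Localization.localRingHom_mk']⟩
  let e := RingEquiv.ofBijective _ hb
  exact ⟨fun _ => IsRegularLocalRing.of_ringEquiv (R := Localization.AtPrime (q.comap θ)) e,
    fun _ => IsRegularLocalRing.of_ringEquiv (R := Localization.AtPrime q) e.symm⟩

variable (k A k' : Type u) [Field k] [CommRing A] [IsLocalRing A] [IsNoetherianRing A] [Algebra k A]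
  [IsAdicComplete (maximalIdeal A) A] [Module.Finite k (ResidueField A)] [Field k'] [Algebra k k']
  {n : ℕ} [Algebra (MvPowerSeries (Fin n) k) A] [IsScalarTower k (MvPowerSeries (Fin n) k) A]
  [Module.Finite (MvPowerSeries (Fin n) k) A]

/-- Over an étale point of a finite map to power series the completed tensor product is regular. -/
theorem isRegularLocalRing_of_isEtaleAt
    (hX : ∀ i, algebraMap (MvPowerSeries (Fin n) k) A (MvPowerSeries.X i) ∈ maximalIdeal A) (p : Ideal A) [p.IsPrime]
    [Algebra.IsEtaleAt (MvPowerSeries (Fin n) k) p] (Q : Ideal (CT k A k')) [Q.IsPrime]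
    (hQ : Q.comap (algebraMap A (CT k A k')) = p) : IsRegularLocalRing (Localization.AtPrime Q) := by
  let P := MvPowerSeries (Fin n) k
  let P' := MvPowerSeries (Fin n) k'
  obtain ⟨e, he, -⟩ := exists_equiv k A k' hX
  suffices IsRegularLocalRing (Localization.AtPrime (Q.comap e.toRingHom)) from isRegularLocalRing_of_equiv e Q
  let C := P' ⊗[P] A
  let Q₀ : Ideal C := Q.comap e.toRingHom
  have hQ₀ : ∀ a : A, (1 : P') ⊗ₜ[P] a ∈ Q₀ ↔ a ∈ p := fun a => by
    rw [← hQ]
    show e (1 ⊗ₜ a) ∈ Q ↔ algebraMap A (CT k A k') a ∈ Q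
    rw [he]
  haveI : Algebra.FinitePresentation P A := Algebra.FinitePresentation.of_finiteType.mp inferInstance
  obtain ⟨g, hg, hsub⟩ : ∃ g ∉ p, ↑(PrimeSpectrum.basicOpen g) ⊆ Algebra.etaleLocus P A := by
    obtain ⟨_, ⟨_, ⟨g, rfl⟩, rfl⟩, hg, hsub⟩ := PrimeSpectrum.isBasis_basic_opens.exists_subset_of_mem_open
      (show (⟨p, inferInstance⟩ : PrimeSpectrum A) ∈ Algebra.etaleLocus P A from ‹Algebra.IsEtaleAt P p›)
      Algebra.isOpen_etaleLocus
    exact ⟨g, hg, hsub⟩
  haveI : Algebra.Etale P (Localization.Away g) := Algebra.basicOpen_subset_etaleLocus_iff_etale.mp hsub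
  let Cg := P' ⊗[P] Localization.Away g
  haveI : IsRegularRing P' := GrothLib.Serre.isRegularRing_of_isRegularLocalRing _
  haveI : IsRegularRing Cg := GrothLib.GeomReg.isRegularRing_of_smooth P' Cg
  letI : Algebra C Cg :=
    (Algebra.TensorProduct.map (AlgHom.id P P') (IsScalarTower.toAlgHom P A (Localization.Away g))).toAlgebra
  haveI : IsScalarTower P' C Cg := IsScalarTower.of_algebraMap_eq (R := P') (S := C) (A := Cg) fun x => by
    show algebraMap P' Cg x = Algebra.TensorProduct.map (AlgHom.id P P') (IsScalarTower.toAlgHom P A (Localization.Away g))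
      (x ⊗ₜ[P] (1 : A))
    rw [Algebra.TensorProduct.map_tmul, map_one]; rfl
  haveI : IsLocalization ((Submonoid.powers g).map (Algebra.TensorProduct.includeRight (R := P) (A := P'))) Cg :=
    IsLocalization.tensorProduct_tensorProduct_right P P' (Submonoid.powers g) (Localization.Away g)
      (by ext; simp [RingHom.algebraMap_toAlgebra])
  let S := (Submonoid.powers g).map (Algebra.TensorProduct.includeRight (R := P) (A := P'))
  have hdisj : Disjoint (S : Set C) (Q₀ : Set C) := by
    rw [Set.disjoint_left]
    rintro _ ⟨_, ⟨j, rfl⟩, rfl⟩ hmem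
    exact hg (Ideal.IsPrime.mem_of_pow_mem inferInstance j ((hQ₀ _).1 hmem))
  haveI : (Q₀.map (algebraMap C Cg)).IsPrime := IsLocalization.isPrime_of_isPrime_disjoint S Cg Q₀ inferInstance hdisj
  have hc : (Q₀.map (algebraMap C Cg)).comap (algebraMap C Cg) = Q₀ :=
    IsLocalization.comap_map_of_isPrime_disjoint S Cg inferInstance hdisj
  let L := Localization.AtPrime (Q₀.map (algebraMap C Cg))
  haveI : IsLocalization.AtPrime L ((Q₀.map (algebraMap C Cg)).comap (algebraMap C Cg)) :=
    IsLocalization.isLocalization_isLocalization_atPrime_isLocalization S L _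
  haveI : IsLocalization Q₀.primeCompl L := by
    have h2 : ((Q₀.map (algebraMap C Cg)).comap (algebraMap C Cg)).primeCompl = Q₀.primeCompl := by
      ext x; exact not_congr (SetLike.ext_iff.1 hc x)
    rw [← h2]; infer_instance
  haveI : IsRegularLocalRing L := inferInstance
  exact IsRegularLocalRing.of_ringEquiv (R := L)
    (IsLocalization.algEquiv Q₀.primeCompl L (Localization.AtPrime Q₀)).toRingEquiv

end GrothLib.CTensor
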